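import Mathlib

/-!
# A point on the conic of Macbeath
-/

set_option autoImplicit false

namespace CL.VN

open Polynomial in
/-- Characteristic 2: `b = s / t`, and `p` is a square root of `b² + r b + 1` (Frobenius is onto).
Odd characteristic: put `p = p' - t b / 2`; the equation is `f p' + g b = 0`, `f = X² - s X + 1`,
`g = (1 - t²/4) X² + (s t / 2 - r) X`.  If `t² ≠ 4` use `FiniteField.exists_root_sum_quadratic`.  If
`t² = 4` then `z² = -1`, and `s t / 2 - r = -1/2 - z/t ≠ 0` (else `z² = 1`, `2 = 0`): `p' = 0` and solve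
the linear equation for `b`. -/
theorem exists_conic {F : Type*} [Field F] [Fintype F] {t z s r : F} (ht : t ≠ 0)
    (hz : z ^ 2 - (t ^ 3 - 4 * t) * z + 1 = 0) (hs : s * t = t ^ 2 - 1) (hr : r * t = 2 * t + z) :
    ∃ p b : F, p ^ 2 + t * p * b + b ^ 2 - s * p - r * b + 1 = 0 := by
  by_cases h2 : ringChar F = 2
  · obtain ⟨p, hp⟩ := FiniteField.isSquare_of_char_two h2 (r * (s / t) - (s / t) ^ 2 - 1)
    refine ⟨p, s / t, ?_⟩
    have e : t * (s / t) = s := by field_simp
    linear_combination p * e - hp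
  have h20 : (2 : F) ≠ 0 := Ring.two_ne_zero h2
  obtain ⟨u, hu⟩ : ∃ u : F, 2 * u = 1 := ⟨2⁻¹, mul_inv_cancel₀ h20⟩
  by_cases h4 : 1 - t ^ 2 * u ^ 2 = 0
  · have h4' : t ^ 2 = 4 := by linear_combination (-4) * h4 - t ^ 2 * (2 * u + 1) * hu
    have hc : s * t * u - r ≠ 0 := by
      intro hc
      apply h20
      have e1 : 2 * z = -t := by
        linear_combination (-2) * hr - 2 * t * hc + 2 * t * u * hs + 2 * t * u * h4' + 3 * t * hu
      have e2 : z ^ 2 + 1 = 0 := by linear_combination hz + t * z * h4'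
      have e3 : (2 : F) ^ 3 = 0 := by linear_combination 4 * e2 - (2 * z - t) * e1 - h4'
      exact pow_eq_zero_iff (by norm_num) |>.1 e3
    obtain ⟨b, hb⟩ : ∃ b : F, (s * t * u - r) * b = -1 := ⟨-(s * t * u - r)⁻¹, by field_simp⟩
    refine ⟨-(t * b * u), b, ?_⟩
    linear_combination hb + b ^ 2 * h4 + t ^ 2 * b ^ 2 * u * hu
  · obtain ⟨p, b, h⟩ := FiniteField.exists_root_sum_quadratic
      (f := C 1 * X ^ 2 + C (-s) * X + C 1) (g := C (1 - t ^ 2 * u ^ 2) * X ^ 2 + C (s * t * u - r) * X + C 0)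
      (degree_quadratic one_ne_zero) (degree_quadratic h4) (FiniteField.odd_card_of_char_ne_two h2)
    simp only [eval_add, eval_mul, eval_C, eval_pow, eval_X] at h
    refine ⟨p - t * b * u, b, ?_⟩
    linear_combination h + (t ^ 2 * b ^ 2 * u - p * t * b) * hu

end CL.VN
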