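import Cfsg.Agent.FGS.BG.K3x

/-!
# The cubic `t³ - t` takes a value `z + 1/z` over the field with `3 ^ r` elements
-/

set_option autoImplicit false

namespace CL.VN

theorem exists_tz_three {F : Type*} [Field F] [Fintype F] {r : ℕ} (hr : 3 ≤ r)
    (hF : Fintype.card F = 3 ^ r) :
    ∃ t z : F, t ≠ 0 ∧ z ^ 2 - (t ^ 3 - 4 * t) * z + 1 = 0 := by
  obtain ⟨z, t, hz, -, h⟩ := CL.BG.K3x.ex hr hF
  have h3 : (3 : F) = 0 := by
    have h0 := FiniteField.cast_card_eq_zero F
    rw [hF, Nat.cast_pow] at h0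
    exact_mod_cast pow_eq_zero_iff (by omega : r ≠ 0) |>.1 h0
  have hzz : z * z⁻¹ = 1 := mul_inv_cancel₀ hz
  by_cases ht : t = 0
  · refine ⟨1, z, one_ne_zero, ?_⟩
    subst ht
    linear_combination z * h - hzz + z * h3
  · refine ⟨t, z, ht, ?_⟩
    linear_combination z * h - hzz + t * z * h3

end CL.VN
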