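import Mathlib

/-!
# A unit `z` with `z + 1/z` of trace zero in characteristic three
-/

set_option autoImplicit false

namespace CL.VN.K3b

open Finset

variable {F : Type*} [Field F] [Fintype F] [DecidableEq F]

theorem zsum {e : ℤ} (he : e.natAbs < Fintype.card F - 1) :
    ∑ z : Fˣ, (z : F) ^ e = if e = 0 then -1 else 0 := by
  have h : ∑ z : Fˣ, (z : F) ^ e = ∑ z : Fˣ, (z : F) ^ e.natAbs := by
    rcases Int.natAbs_eq e with h | h
    · conv_lhs => rw [h]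
      simp only [zpow_natCast]
    · conv_lhs => rw [h]
      rw [← Equiv.sum_comp (Equiv.inv Fˣ)]
      simp only [Equiv.inv_apply, Units.val_inv_eq_inv_val, zpow_neg, zpow_natCast, inv_pow, inv_inv]
  rw [h, FiniteField.sum_pow_units]
  refine if_congr ⟨fun hd => ?_, fun h0 => by simp [h0]⟩ rfl rfl
  exact Int.natAbs_eq_zero.1 (Nat.eq_zero_of_dvd_of_lt hd he)

theorem three (i : ℕ) : (i = 0 ∧ (3 : ℤ) ^ i = 1) ∨ (i = 1 ∧ (3 : ℤ) ^ i = 3) ∨
    (2 ≤ i ∧ ∃ k : ℤ, 1 ≤ k ∧ (3 : ℤ) ^ i = 9 * k) := by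
  rcases i with _ | _ | i
  · simp
  · simp
  · exact Or.inr (Or.inr ⟨by omega, 3 ^ i, one_le_pow₀ (by norm_num), by ring⟩)

omit [DecidableEq F] in
theorem ex {r : ℕ} (hr : 3 ≤ r) (hF : Fintype.card F = 3 ^ r) :
    ∃ z : F, z ≠ 0 ∧ ∑ i ∈ Finset.range r, (z + z⁻¹) ^ 3 ^ i = 0 := by
  classical
  have : Fact (Nat.Prime 3) := ⟨Nat.prime_three⟩
  have : CharP F 3 := charP_of_card_eq_prime_pow hF
  by_contra hc
  push Not at hc
  have cube : ∀ w : F, (∑ i ∈ range r, w ^ 3 ^ i) ^ 3 = ∑ i ∈ range r, w ^ 3 ^ i := fun w => by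
    rw [sum_pow_char]
    have h1 := sum_range_succ (fun i => w ^ 3 ^ i) r
    rw [sum_range_succ', ← hF, FiniteField.pow_card, pow_zero, pow_one] at h1
    simp only [← pow_mul, ← pow_succ]
    exact add_right_cancel h1
  have sq1 : ∀ z : Fˣ, (∑ i ∈ range r, ((z : F) + (z : F)⁻¹) ^ 3 ^ i) ^ 2 = 1 := fun z =>
    mul_left_cancel₀ (hc z z.ne_zero) (by rw [← pow_succ', cube, mul_one])
  obtain ⟨s, rfl⟩ : ∃ s, r = s + 3 := ⟨r - 3, by omega⟩
  have hs : (1 : ℤ) ≤ 3 ^ s := one_le_pow₀ (by norm_num)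
  have hq : ((Fintype.card F : ℕ) : ℤ) = 27 * 3 ^ s := by rw [hF]; push_cast; ring
  have bd : ∀ i ∈ range (s + 3), (1 : ℤ) ≤ 3 ^ i ∧ (3 : ℤ) ^ i ≤ 9 * 3 ^ s := fun i hi =>
    ⟨one_le_pow₀ (by norm_num), (pow_le_pow_right₀ (by norm_num) (show i ≤ s + 2 by
      have := mem_range.1 hi; omega)).trans_eq (by ring)⟩
  have h0 : ∑ z : Fˣ, (z : F) ^ (4 : ℤ) * (∑ i ∈ range (s + 3), ((z : F) + (z : F)⁻¹) ^ 3 ^ i) ^ 2 = 0 := by
    simp only [sq1, mul_one]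
    rw [zsum (by omega), if_neg (by norm_num)]
  have ex : ∀ z : Fˣ, (z : F) ^ (4 : ℤ) * (∑ i ∈ range (s + 3), ((z : F) + (z : F)⁻¹) ^ 3 ^ i) ^ 2 =
      ∑ i ∈ range (s + 3), ∑ j ∈ range (s + 3), ((z : F) ^ (4 + 3 ^ i + 3 ^ j : ℤ) + (z : F) ^ (4 + 3 ^ i - 3 ^ j : ℤ) +
        (z : F) ^ (4 - 3 ^ i + 3 ^ j : ℤ) + (z : F) ^ (4 - 3 ^ i - 3 ^ j : ℤ)) := fun z => by
    rw [sq, sum_mul_sum, mul_sum]
    refine sum_congr rfl fun i _ => ?_
    rw [mul_sum]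
    refine sum_congr rfl fun j _ => ?_
    have p : ∀ k : ℕ, (z : F) ^ ((3 : ℤ) ^ k) = (z : F) ^ 3 ^ k := fun k => by
      rw [← zpow_natCast]; push_cast; rfl
    simp only [add_pow_char_pow, zpow_add₀ z.ne_zero, zpow_sub₀ z.ne_zero, p, inv_pow, div_eq_mul_inv]
    ring
  simp only [ex] at h0
  rw [sum_comm] at h0
  rw [sum_congr rfl fun i hi => sum_comm.trans (sum_congr rfl fun j hj => show _ =
    (if i = 0 then if j = 1 then (-1 : F) else 0 else 0) + (if i = 1 then if j = 0 then (-1 : F) else 0 else 0) from ?_)] at h0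
  · simp only [sum_add_distrib, sum_ite_irrel, sum_ite_eq', sum_const_zero, mem_range] at h0
    rw [if_pos (by omega), if_pos (by omega), if_pos (by omega), if_pos (by omega)] at h0
    have h3 : (3 : F) = 0 := CharP.cast_eq_zero F 3
    exact one_ne_zero (α := F) (by linear_combination h0 + h3)
  · have b1 := bd i hi
    have b2 := bd j hj
    simp only [sum_add_distrib]
    rw [zsum (by omega), zsum (by omega), zsum (by omega), zsum (by omega)]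
    rcases three i with ⟨a1, a2⟩ | ⟨a1, a2⟩ | ⟨a1, k, k1, a2⟩ <;>
      rcases three j with ⟨c1, c2⟩ | ⟨c1, c2⟩ | ⟨c1, l, l1, c2⟩ <;> rw [a2, c2] <;>
      split_ifs <;> first | omega | simp

end CL.VN.K3b
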