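import Cfsg.Agent.FGS.VN.Defs
import Cfsg.Agent.FGS.BWW

/-!
# The law fails in `L₃(3)`
-/

set_option autoImplicit false

namespace CL.VN

open Matrix

namespace L33x
open scoped MatrixGroups

/-- first generator -/
def a3 : SL(3, ZMod 3) := ⟨!![0, 0, 1; 0, 1, 0; 2, 0, 0], by rw [det_fin_three]; decide⟩
/-- second generator -/
def c3 : SL(3, ZMod 3) := ⟨!![1, 2, 2; 1, 1, 2; 1, 0, 1], by rw [det_fin_three]; decide⟩
/-- its inverse -/
def d3 : SL(3, ZMod 3) := ⟨!![1, 1, 2; 1, 2, 0; 2, 2, 2], by rw [det_fin_three]; decide⟩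
/-- the value -/
def v3 : SL(3, ZMod 3) := ⟨!![2, 2, 1; 2, 1, 1; 2, 0, 2], by rw [det_fin_three]; decide⟩

theorem inv : c3⁻¹ = d3 := inv_eq_of_mul_eq_one_right (Subtype.ext (by decide +kernel))
theorem rel : Rel a3 c3 := by
  rw [Rel, inv]
  exact Subtype.ext (by decide +kernel)
theorem val : c3 * (a3 * a3) = v3 := Subtype.ext (by decide +kernel)

end L33x

/-- Find `a c : SL(3, ZMod 3)` with `Rel a c` and `c * (a * a) ≠ 1` by a computer search (5616² pairs, or
`a` over class representatives), check by `decide`; transport to `F` as in `CL.BWW.not_law_three`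
(`ZMod.ringEquivOfPrime`/`FiniteField.ringEquivOfCardEq`, `SpecialLinearGroup.map`, `BWW.mk_ne_one`), and
use `Rel.not_law`. -/
theorem not_law_three {F : Type*} [Field F] [Fintype F] (hF : Fintype.card F = 3) (n : ℕ) :
    ¬ Law n (ProjectiveSpecialLinearGroup (Fin 3) F) := by
  haveI : Fact (Nat.Prime 3) := ⟨Nat.prime_three⟩
  haveI : CharP F 3 := charP_of_card_eq_prime hF
  refine L33x.rel.not_law ((QuotientGroup.mk' _).comp
    (SpecialLinearGroup.map (ZMod.castHom (dvd_refl 3) F))) ?_ n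
  rw [L33x.val]
  have h : L33x.v3.1 0 2 = 1 := rfl
  refine BWW.mk_ne_one fun r e => ?_
  have := congrFun (congrFun e 0) 2
  simp [h] at this

end CL.VN
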