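import Cfsg.Agent.CHEV.SzConcrete

/-!
# Polynomial matrices in characteristic 2 with `c A c⁻¹ A c ~ A² c² A²`: definitions
-/

set_option autoImplicit false
set_option linter.unusedVariables false

namespace CL.VN.Mx

open Matrix

variable {F : Type*} [Field F]

/-- `E` -/
def p0 (n M : F) : F := 1 + M + n

/-- `θ E` -/
def p1 (n M : F) : F := 1 + n + M^(2:ℕ)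

/-- `D` -/
def q0 (n M : F) : F := M + n + n^(2:ℕ) + M^(3:ℕ)

/-- `θ D` -/
def q1 (n M : F) : F := n + M^(2:ℕ) + n^(3:ℕ) + M^(4:ℕ)

/-- the relation of `Z` -/
def Rz (n M Z : F) : Prop :=
  Z^(2:ℕ) = n*M*p0 n M*p1 n M*Z + n*M*p1 n M*(n^(2:ℕ)*(1+M)*p0 n M^(2:ℕ) + M^(3:ℕ)*(1+n)*p1 n M)

/-- the numerator of `a` -/
def mA (n M Z : F) : Matrix (Fin 4) (Fin 4) F :=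
  !![M*q1 n M*(M + n + n*M + n^(2:ℕ) + M^(3:ℕ) + n*M^(2:ℕ) + n^(2:ℕ)*M), M*q1 n M*(n*M + n^(2:ℕ) + M^(3:ℕ) + n*M^(2:ℕ) + M^(4:ℕ) + n^(3:ℕ)*M + n^(4:ℕ) + M^(5:ℕ) + n^(2:ℕ)*M^(3:ℕ) + M^(6:ℕ) + (M)*Z), n^(2:ℕ)*M*q0 n M^(2:ℕ)*q1 n M*p0 n M, n*M^(2:ℕ)*q0 n M^(2:ℕ)*q1 n M^(2:ℕ);
    (n*M + n^(2:ℕ) + M^(3:ℕ) + M^(4:ℕ) + n*M^(3:ℕ) + n^(3:ℕ)*M + n^(4:ℕ) + M^(5:ℕ) + n*M^(4:ℕ) + n^(3:ℕ)*M^(2:ℕ) + M^(6:ℕ) + n*M^(5:ℕ) + n^(2:ℕ)*M^(4:ℕ) + (M)*Z), M^(3:ℕ)*q1 n M*p1 n M, n*M*q0 n M^(2:ℕ)*q1 n M, 0;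
    n*p0 n M, M*q1 n M, 0, 0;
    1, 0, 0, 0]

/-- the element of order four -/
def mC (n M Z : F) : Matrix (Fin 4) (Fin 4) F :=
  !![1, q0 n M, (n*M + M^(3:ℕ) + n^(3:ℕ) + M^(4:ℕ) + n^(3:ℕ)*M + M^(5:ℕ) + n*M^(4:ℕ) + n^(2:ℕ)*M^(3:ℕ) + n^(3:ℕ)*M^(2:ℕ) + n^(5:ℕ) + M^(6:ℕ) + n^(3:ℕ)*M^(3:ℕ) + (1 + n)*Z), q1 n M*(M^(3:ℕ) + n*M^(2:ℕ) + n*M^(3:ℕ) + n^(2:ℕ)*M^(2:ℕ) + M^(5:ℕ) + n*M^(4:ℕ) + Z);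
    0, 1, q1 n M, (n^(2:ℕ) + n*M^(2:ℕ) + M^(4:ℕ) + n*M^(3:ℕ) + n^(2:ℕ)*M^(2:ℕ) + n^(4:ℕ) + M^(5:ℕ) + n^(2:ℕ)*M^(3:ℕ) + n^(3:ℕ)*M^(2:ℕ) + M^(6:ℕ) + n^(2:ℕ)*M^(4:ℕ) + M^(7:ℕ) + (1 + n)*Z);
    0, 0, 1, q0 n M;
    0, 0, 0, 1]

/-- its inverse -/
def mI (n M Z : F) : Matrix (Fin 4) (Fin 4) F :=
  !![1, q0 n M, (n^(2:ℕ) + n*M^(2:ℕ) + M^(4:ℕ) + n*M^(3:ℕ) + n^(2:ℕ)*M^(2:ℕ) + n^(4:ℕ) + M^(5:ℕ) + n^(2:ℕ)*M^(3:ℕ) + n^(3:ℕ)*M^(2:ℕ) + M^(6:ℕ) + n^(2:ℕ)*M^(4:ℕ) + M^(7:ℕ) + (1 + n)*Z), q1 n M*(M^(3:ℕ) + n*M^(2:ℕ) + n*M^(3:ℕ) + n^(2:ℕ)*M^(2:ℕ) + M^(5:ℕ) + n*M^(4:ℕ) + Z);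
    0, 1, q1 n M, (n*M + M^(3:ℕ) + n^(3:ℕ) + M^(4:ℕ) + n^(3:ℕ)*M + M^(5:ℕ) + n*M^(4:ℕ) + n^(2:ℕ)*M^(3:ℕ) + n^(3:ℕ)*M^(2:ℕ) + n^(5:ℕ) + M^(6:ℕ) + n^(3:ℕ)*M^(3:ℕ) + (1 + n)*Z);
    0, 0, 1, q0 n M;
    0, 0, 0, 1]

/-- its square -/
def mZ (n M Z : F) : Matrix (Fin 4) (Fin 4) F :=
  !![1, 0, q0 n M*q1 n M, q0 n M^(2:ℕ)*q1 n M;
    0, 1, 0, q0 n M*q1 n M;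
    0, 0, 1, 0;
    0, 0, 0, 1]

theorem mv {a00 a01 a02 a03 a10 a11 a12 a13 a20 a21 a22 a23 a30 a31 a32 a33 x0 x1 x2 x3 f y0 y1 y2 y3 : F}
    (h0 : a00 * x0 + a01 * x1 + a02 * x2 + a03 * x3 = f * y0)
    (h1 : a10 * x0 + a11 * x1 + a12 * x2 + a13 * x3 = f * y1)
    (h2 : a20 * x0 + a21 * x1 + a22 * x2 + a23 * x3 = f * y2)
    (h3 : a30 * x0 + a31 * x1 + a32 * x2 + a33 * x3 = f * y3) :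
    !![a00, a01, a02, a03; a10, a11, a12, a13; a20, a21, a22, a23; a30, a31, a32, a33] *ᵥ
      ![x0, x1, x2, x3] = f • ![y0, y1, y2, y3] := by
  ext i
  fin_cases i <;> simp [mulVec, dotProduct, Fin.sum_univ_four, *]

/-- the common value on the first basis vector -/
def w0 (n M Z : F) : Fin 4 → F :=
  ![q0 n M*q1 n M*(n^(2:ℕ) + n^(2:ℕ)*M + n*M^(3:ℕ) + n^(2:ℕ)*M^(2:ℕ) + n^(4:ℕ) + n^(4:ℕ)*M + n*M^(5:ℕ) + (1 + M + n)*Z),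
    n*q0 n M*(n + n^(2:ℕ) + M^(3:ℕ) + n^(2:ℕ)*M + n^(3:ℕ) + n^(2:ℕ)*M^(2:ℕ) + n^(4:ℕ) + n*M^(4:ℕ) + n^(3:ℕ)*M^(2:ℕ) + n^(4:ℕ)*M + M^(7:ℕ) + (1 + M + n)*Z),
    (n*M + n^(2:ℕ)*M + n^(3:ℕ)*M + n*M^(4:ℕ) + n^(2:ℕ)*M^(3:ℕ) + n^(4:ℕ)*M + n*M^(5:ℕ) + n^(2:ℕ)*M^(4:ℕ) + n^(3:ℕ)*M^(3:ℕ) + n*M^(6:ℕ) + (1 + M + n)*Z),
    n*(1 + M + n + M^(2:ℕ) + M^(3:ℕ))]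

/-- the common value on the last basis vector -/
def w3 (n M Z : F) : Fin 4 → F :=
  ![M*q0 n M*q1 n M*(n*M^(2:ℕ) + n^(3:ℕ) + n^(2:ℕ)*M^(2:ℕ) + n^(4:ℕ) + n*M^(4:ℕ) + n^(4:ℕ)*M + (1 + M)*Z),
    q0 n M*(n^(3:ℕ) + n^(3:ℕ)*M + n*M^(4:ℕ) + n^(2:ℕ)*M^(3:ℕ) + n^(3:ℕ)*M^(2:ℕ) + n^(5:ℕ) + n^(2:ℕ)*M^(4:ℕ) + n^(3:ℕ)*M^(3:ℕ) + n^(4:ℕ)*M^(2:ℕ) + n^(5:ℕ)*M + n^(5:ℕ)*M^(2:ℕ) + n^(2:ℕ)*M^(6:ℕ) + n*M^(8:ℕ) + n^(2:ℕ)*M^(7:ℕ) + (n + M^(2:ℕ) + n*M + n^(2:ℕ) + n*M^(2:ℕ) + M^(4:ℕ))*Z),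
    (n^(2:ℕ)*M + n^(3:ℕ) + n^(3:ℕ)*M + n^(2:ℕ)*M^(3:ℕ) + n^(4:ℕ)*M + n^(5:ℕ) + n*M^(5:ℕ) + n^(2:ℕ)*M^(4:ℕ) + n^(3:ℕ)*M^(3:ℕ) + n^(4:ℕ)*M^(2:ℕ) + n^(5:ℕ)*M + n^(2:ℕ)*M^(5:ℕ) + n^(3:ℕ)*M^(4:ℕ) + n^(4:ℕ)*M^(3:ℕ) + n*M^(7:ℕ) + n^(2:ℕ)*M^(6:ℕ) + (n + M^(2:ℕ) + n^(2:ℕ) + M^(3:ℕ))*Z),
    (n^(2:ℕ) + n*M^(2:ℕ) + n^(3:ℕ) + n^(2:ℕ)*M^(2:ℕ) + n^(3:ℕ)*M + n*M^(4:ℕ) + n^(2:ℕ)*M^(3:ℕ) + Z)]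

end CL.VN.Mx
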