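import Cfsg.Agent.FGS.VN.Mx0

/-!
# The chain `L0`
-/

set_option autoImplicit false
set_option linter.unusedVariables false

namespace CL.VN.Mx

open Matrix

variable {F : Type*} [Field F]

/-- an intermediate vector -/
def vL00 (n M Z : F) : Fin 4 → F :=
  ![1,
    0,
    0,
    0]

/-- an intermediate vector -/
def vL01 (n M Z : F) : Fin 4 → F :=
  ![M*q1 n M*(M + n + n*M + n^(2:ℕ) + M^(3:ℕ) + n*M^(2:ℕ) + n^(2:ℕ)*M),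
    (n*M + n^(2:ℕ) + M^(3:ℕ) + M^(4:ℕ) + n*M^(3:ℕ) + n^(3:ℕ)*M + n^(4:ℕ) + M^(5:ℕ) + n*M^(4:ℕ) + n^(3:ℕ)*M^(2:ℕ) + M^(6:ℕ) + n*M^(5:ℕ) + n^(2:ℕ)*M^(4:ℕ) + (M)*Z),
    n*p0 n M,
    1]

/-- an intermediate vector -/
def vL02 (n M Z : F) : Fin 4 → F :=
  ![n*M*q1 n M*(1 + M + n + M^(2:ℕ) + M^(3:ℕ)),
    (n*M^(2:ℕ) + n^(2:ℕ)*M + n^(2:ℕ)*M^(2:ℕ) + n*M^(4:ℕ) + n^(2:ℕ)*M^(3:ℕ) + n^(4:ℕ)*M + n^(3:ℕ)*M^(3:ℕ) + (1 + M + n)*Z),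
    M*p1 n M,
    1]

/-- an intermediate vector -/
def vL03 (n M Z : F) : Fin 4 → F :=
  ![q0 n M*q1 n M*(n*M + n*M^(3:ℕ) + n^(3:ℕ)*M + n^(2:ℕ)*M^(3:ℕ) + Z),
    q0 n M*(n^(2:ℕ) + n^(2:ℕ)*M + n*M^(3:ℕ) + n^(2:ℕ)*M^(2:ℕ) + n^(4:ℕ) + n^(2:ℕ)*M^(3:ℕ) + n^(4:ℕ)*M + n*M^(5:ℕ) + n^(3:ℕ)*M^(3:ℕ) + n^(2:ℕ)*M^(5:ℕ) + (M + M^(2:ℕ))*Z),
    (n^(2:ℕ) + n*M^(2:ℕ) + n^(2:ℕ)*M + n^(2:ℕ)*M^(2:ℕ) + n^(4:ℕ) + n*M^(4:ℕ) + n^(2:ℕ)*M^(3:ℕ) + n^(3:ℕ)*M^(2:ℕ) + n^(4:ℕ)*M + n^(2:ℕ)*M^(4:ℕ) + (1 + M + n)*Z),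
    n*(1 + M + n + M^(2:ℕ) + M^(3:ℕ))]

variable [CharP F 2] {n M Z : F}

theorem sL00 (h : Rz n M Z) : mC n M Z *ᵥ ![1, 0, 0, 0] = (1 : F) • vL00 n M Z := by
  refine mv ?_ ?_ ?_ ?_ <;> simp only [Rz, p0, p1, q0, q1] at h ⊢ <;> grind

theorem sL01 (h : Rz n M Z) : mA n M Z *ᵥ vL00 n M Z = (1 : F) • vL01 n M Z := by
  refine mv ?_ ?_ ?_ ?_ <;> simp only [Rz, p0, p1, q0, q1] at h ⊢ <;> grind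

theorem sL02 (h : Rz n M Z) : mI n M Z *ᵥ vL01 n M Z = (1 : F) • vL02 n M Z := by
  refine mv ?_ ?_ ?_ ?_ <;> simp only [Rz, p0, p1, q0, q1] at h ⊢ <;> grind

theorem sL03 (h : Rz n M Z) : mA n M Z *ᵥ vL02 n M Z = (M*q1 n M : F) • vL03 n M Z := by
  refine mv ?_ ?_ ?_ ?_ <;> simp only [Rz, p0, p1, q0, q1] at h ⊢ <;> grind

theorem sL04 (h : Rz n M Z) : mC n M Z *ᵥ vL03 n M Z = (1 : F) • w0 n M Z := by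
  refine mv ?_ ?_ ?_ ?_ <;> simp only [Rz, p0, p1, q0, q1] at h ⊢ <;> grind

theorem cL0 (h : Rz n M Z) : (mC n M Z * mA n M Z * mI n M Z * mA n M Z * mC n M Z) *ᵥ ![1, 0, 0, 0] =
    (M*q1 n M : F) • w0 n M Z := by
  simp only [← mulVec_mulVec, mulVec_smul, smul_smul, sL00 h, sL01 h, sL02 h, sL03 h, sL04 h]
  congr 1
  ring

end CL.VN.Mx
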