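import Cfsg.Agent.FGS.VN.Mx0

/-!
# The chain `L3`
-/

set_option autoImplicit false
set_option linter.unusedVariables false

namespace CL.VN.Mx

open Matrix

variable {F : Type*} [Field F]

/-- an intermediate vector -/
def vL30 (n M Z : F) : Fin 4 → F :=
  ![q1 n M*(M^(3:ℕ) + n*M^(2:ℕ) + n*M^(3:ℕ) + n^(2:ℕ)*M^(2:ℕ) + M^(5:ℕ) + n*M^(4:ℕ) + Z),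
    (n^(2:ℕ) + n*M^(2:ℕ) + M^(4:ℕ) + n*M^(3:ℕ) + n^(2:ℕ)*M^(2:ℕ) + n^(4:ℕ) + M^(5:ℕ) + n^(2:ℕ)*M^(3:ℕ) + n^(3:ℕ)*M^(2:ℕ) + M^(6:ℕ) + n^(2:ℕ)*M^(4:ℕ) + M^(7:ℕ) + (1 + n)*Z),
    q0 n M,
    1]

/-- an intermediate vector -/
def vL31 (n M Z : F) : Fin 4 → F :=
  ![M*q0 n M*q1 n M*(n^(2:ℕ) + M^(3:ℕ) + M^(4:ℕ) + n*M^(3:ℕ) + n^(2:ℕ)*M^(2:ℕ) + n^(4:ℕ) + M^(5:ℕ) + n*M^(4:ℕ) + M^(6:ℕ) + (M)*Z),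
    q0 n M*(n^(3:ℕ)*M + M^(5:ℕ) + n^(2:ℕ)*M^(3:ℕ) + n^(2:ℕ)*M^(4:ℕ) + n^(3:ℕ)*M^(3:ℕ) + n^(5:ℕ)*M + n^(3:ℕ)*M^(4:ℕ) + n^(4:ℕ)*M^(3:ℕ) + n^(2:ℕ)*M^(6:ℕ) + n^(3:ℕ)*M^(5:ℕ) + M^(9:ℕ) + (n + n*M + n^(2:ℕ))*Z),
    (n^(2:ℕ)*M + n^(2:ℕ)*M^(2:ℕ) + M^(5:ℕ) + n^(4:ℕ)*M + M^(6:ℕ) + n*M^(5:ℕ) + n^(2:ℕ)*M^(4:ℕ) + n^(3:ℕ)*M^(3:ℕ) + n^(4:ℕ)*M^(2:ℕ) + M^(7:ℕ) + n*M^(6:ℕ) + n^(2:ℕ)*M^(5:ℕ) + n^(3:ℕ)*M^(4:ℕ) + M^(8:ℕ) + (M + n + n^(2:ℕ))*Z),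
    (M^(3:ℕ) + n*M^(2:ℕ) + n*M^(3:ℕ) + n^(2:ℕ)*M^(2:ℕ) + M^(5:ℕ) + n*M^(4:ℕ) + Z)]

/-- an intermediate vector -/
def vL32 (n M Z : F) : Fin 4 → F :=
  ![M^(2:ℕ)*q0 n M*q1 n M*(n^(2:ℕ) + n*M^(2:ℕ) + n^(3:ℕ) + n^(2:ℕ)*M^(2:ℕ) + n^(3:ℕ)*M + n*M^(4:ℕ) + n^(2:ℕ)*M^(3:ℕ) + Z),
    M*q0 n M*(n^(3:ℕ) + n*M^(3:ℕ) + n^(3:ℕ)*M + n^(3:ℕ)*M^(2:ℕ) + n^(5:ℕ) + n*M^(5:ℕ) + n^(3:ℕ)*M^(3:ℕ) + n^(5:ℕ)*M + n^(2:ℕ)*M^(5:ℕ) + n^(3:ℕ)*M^(4:ℕ) + n^(4:ℕ)*M^(3:ℕ) + (M + n + M^(2:ℕ) + n*M + n^(2:ℕ))*Z),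
    M*(n^(2:ℕ) + M^(3:ℕ) + M^(4:ℕ) + n*M^(3:ℕ) + n^(2:ℕ)*M^(2:ℕ) + n^(4:ℕ) + M^(5:ℕ) + M^(6:ℕ) + n^(2:ℕ)*M^(4:ℕ) + n*M^(6:ℕ) + (M^(2:ℕ))*Z),
    (M^(3:ℕ) + n*M^(2:ℕ) + n*M^(3:ℕ) + n^(2:ℕ)*M^(2:ℕ) + M^(5:ℕ) + n*M^(4:ℕ) + Z)]

/-- an intermediate vector -/
def vL33 (n M Z : F) : Fin 4 → F :=
  ![n^(2:ℕ)*M*q0 n M*q1 n M*p0 n M*p1 n M,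
    n*q0 n M*p1 n M*(M^(3:ℕ) + n^(2:ℕ)*M + n^(2:ℕ)*M^(2:ℕ) + n^(3:ℕ)*M + M^(5:ℕ) + n*M^(4:ℕ) + n^(2:ℕ)*M^(3:ℕ) + Z),
    M*(n*M^(2:ℕ) + n^(2:ℕ)*M + n^(2:ℕ)*M^(2:ℕ) + n^(3:ℕ)*M + n*M^(4:ℕ) + n^(2:ℕ)*M^(3:ℕ) + n^(3:ℕ)*M^(2:ℕ) + n^(3:ℕ)*M^(3:ℕ) + (1 + M)*Z),
    (n^(2:ℕ) + n*M^(2:ℕ) + n^(3:ℕ) + n^(2:ℕ)*M^(2:ℕ) + n^(3:ℕ)*M + n*M^(4:ℕ) + n^(2:ℕ)*M^(3:ℕ) + Z)]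

variable [CharP F 2] {n M Z : F}

theorem sL30 (h : Rz n M Z) : mC n M Z *ᵥ ![0, 0, 0, 1] = (1 : F) • vL30 n M Z := by
  refine mv ?_ ?_ ?_ ?_ <;> simp only [Rz, p0, p1, q0, q1] at h ⊢ <;> grind

theorem sL31 (h : Rz n M Z) : mA n M Z *ᵥ vL30 n M Z = (q1 n M : F) • vL31 n M Z := by
  refine mv ?_ ?_ ?_ ?_ <;> simp only [Rz, p0, p1, q0, q1] at h ⊢ <;> grind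

theorem sL32 (h : Rz n M Z) : mI n M Z *ᵥ vL31 n M Z = (1 : F) • vL32 n M Z := by
  refine mv ?_ ?_ ?_ ?_ <;> simp only [Rz, p0, p1, q0, q1] at h ⊢ <;> grind

theorem sL33 (h : Rz n M Z) : mA n M Z *ᵥ vL32 n M Z = (M^(2:ℕ)*q0 n M*q1 n M : F) • vL33 n M Z := by
  refine mv ?_ ?_ ?_ ?_ <;> simp only [Rz, p0, p1, q0, q1] at h ⊢ <;> grind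

theorem sL34 (h : Rz n M Z) : mC n M Z *ᵥ vL33 n M Z = (1 : F) • w3 n M Z := by
  refine mv ?_ ?_ ?_ ?_ <;> simp only [Rz, p0, p1, q0, q1] at h ⊢ <;> grind

theorem cL3 (h : Rz n M Z) : (mC n M Z * mA n M Z * mI n M Z * mA n M Z * mC n M Z) *ᵥ ![0, 0, 0, 1] =
    (q1 n M^(2:ℕ)*M^(2:ℕ)*q0 n M : F) • w3 n M Z := by
  simp only [← mulVec_mulVec, mulVec_smul, smul_smul, sL30 h, sL31 h, sL32 h, sL33 h, sL34 h]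
  congr 1
  ring

end CL.VN.Mx
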