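import Cfsg.Agent.FGS.VN.Mx0

/-!
# The chain `R3`
-/

set_option autoImplicit false
set_option linter.unusedVariables false

namespace CL.VN.Mx

open Matrix

variable {F : Type*} [Field F]

/-- an intermediate vector -/
def vR30 (n M Z : F) : Fin 4 → F :=
  ![1,
    0,
    0,
    0]

/-- an intermediate vector -/
def vR31 (n M Z : F) : Fin 4 → F :=
  ![M*q1 n M*(M + n + n*M + n^(2:ℕ) + M^(3:ℕ) + n*M^(2:ℕ) + n^(2:ℕ)*M),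
    (n*M + n^(2:ℕ) + M^(3:ℕ) + M^(4:ℕ) + n*M^(3:ℕ) + n^(3:ℕ)*M + n^(4:ℕ) + M^(5:ℕ) + n*M^(4:ℕ) + n^(3:ℕ)*M^(2:ℕ) + M^(6:ℕ) + n*M^(5:ℕ) + n^(2:ℕ)*M^(4:ℕ) + (M)*Z),
    n*p0 n M,
    1]

/-- an intermediate vector -/
def vR32 (n M Z : F) : Fin 4 → F :=
  ![M*q1 n M*(n^(2:ℕ) + M^(3:ℕ) + n^(2:ℕ)*M + n^(3:ℕ) + n*M^(3:ℕ) + n^(2:ℕ)*M^(2:ℕ) + M^(5:ℕ)),
    (n*M^(2:ℕ) + n^(3:ℕ) + M^(4:ℕ) + n^(2:ℕ)*M^(2:ℕ) + M^(5:ℕ) + n^(3:ℕ)*M^(2:ℕ) + n^(5:ℕ) + M^(6:ℕ) + n*M^(5:ℕ) + n^(3:ℕ)*M^(3:ℕ) + M^(7:ℕ) + (M)*Z),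
    n*p0 n M,
    1]

/-- an intermediate vector -/
def vR33 (n M Z : F) : Fin 4 → F :=
  ![M*q0 n M*q1 n M*(n^(2:ℕ) + n*M^(2:ℕ) + n^(3:ℕ) + n^(2:ℕ)*M^(2:ℕ) + n^(3:ℕ)*M + n*M^(4:ℕ) + n^(2:ℕ)*M^(3:ℕ) + Z),
    M*q0 n M*(n^(2:ℕ) + n^(2:ℕ)*M + n^(4:ℕ) + n*M^(4:ℕ) + n^(3:ℕ)*M^(2:ℕ) + n^(4:ℕ)*M + n^(3:ℕ)*M^(3:ℕ) + n*M^(6:ℕ) + n^(2:ℕ)*M^(5:ℕ) + (M + n + M^(2:ℕ))*Z),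
    M*(n*M + M^(3:ℕ) + n*M^(2:ℕ) + n^(2:ℕ)*M + M^(4:ℕ) + n*M^(3:ℕ) + n^(3:ℕ)*M + M^(5:ℕ) + n^(2:ℕ)*M^(3:ℕ) + n^(3:ℕ)*M^(2:ℕ) + n^(4:ℕ)*M + M^(6:ℕ) + n*M^(5:ℕ) + n^(2:ℕ)*M^(4:ℕ) + Z),
    (n^(2:ℕ) + M^(3:ℕ) + n^(2:ℕ)*M + n^(3:ℕ) + n*M^(3:ℕ) + n^(2:ℕ)*M^(2:ℕ) + M^(5:ℕ))]

variable [CharP F 2] {n M Z : F}

theorem sR30 (h : Rz n M Z) : mA n M Z *ᵥ ![0, 0, 0, 1] = (n*M^(2:ℕ)*q0 n M^(2:ℕ)*q1 n M^(2:ℕ) : F) • vR30 n M Z := by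
  refine mv ?_ ?_ ?_ ?_ <;> simp only [Rz, p0, p1, q0, q1] at h ⊢ <;> grind

theorem sR31 (h : Rz n M Z) : mA n M Z *ᵥ vR30 n M Z = (1 : F) • vR31 n M Z := by
  refine mv ?_ ?_ ?_ ?_ <;> simp only [Rz, p0, p1, q0, q1] at h ⊢ <;> grind

theorem sR32 (h : Rz n M Z) : mZ n M Z *ᵥ vR31 n M Z = (1 : F) • vR32 n M Z := by
  refine mv ?_ ?_ ?_ ?_ <;> simp only [Rz, p0, p1, q0, q1] at h ⊢ <;> grind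

theorem sR33 (h : Rz n M Z) : mA n M Z *ᵥ vR32 n M Z = (M*q1 n M : F) • vR33 n M Z := by
  refine mv ?_ ?_ ?_ ?_ <;> simp only [Rz, p0, p1, q0, q1] at h ⊢ <;> grind

theorem sR34 (h : Rz n M Z) : mA n M Z *ᵥ vR33 n M Z = (M*q0 n M*q1 n M : F) • w3 n M Z := by
  refine mv ?_ ?_ ?_ ?_ <;> simp only [Rz, p0, p1, q0, q1] at h ⊢ <;> grind

theorem cR3 (h : Rz n M Z) : (mA n M Z * mA n M Z * mZ n M Z * mA n M Z * mA n M Z) *ᵥ ![0, 0, 0, 1] =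
    (n*M^(4:ℕ)*q0 n M^(3:ℕ)*q1 n M^(4:ℕ) : F) • w3 n M Z := by
  simp only [← mulVec_mulVec, mulVec_smul, smul_smul, sR30 h, sR31 h, sR32 h, sR33 h, sR34 h]
  congr 1
  ring

end CL.VN.Mx
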