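import Mathlib
import Cfsg.Agent.FGS.BG.OddX

/-!
# The cubic `t³ - 4t` takes a value `z + 1/z` (characteristic `≠ 2, 3`, and characteristic 2)
-/

set_option autoImplicit false

namespace CL.VN

/-- Let `h t = t^3 - 4 t`, `q = card F`.  (1) The set `S = {z + z⁻¹ | z ≠ 0}` has at least `(q+1)/2`
elements (fibres of `z ↦ z + z⁻¹` on `Fˣ` are `{z, z⁻¹}`, those of `1` and `-1` are single points;
or: `S` is the image of `Fˣ`, `∑ fibres = q - 1`).  (2) `#{(t,u) | h t = h u} ≤ 2q + 2`: `t = u` or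
`t² + t u + u² = 4`; a point of this conic with `t ≠ 2` is determined by `l = u/(t-2)`, as
`t (1 + l + l²) = 2 l² - 2` (if `1 + l + l² = 0` then `l² = 1`, so `l = 1` and `3 = 0`, or `l = -1`
and `1 = 0`); `t = 2` gives `u = 0, -2`.  (3) Cauchy-Schwarz (`sq_sum_le_card_mul_sum_sq` on the
fibres of `h`): `q² ≤ #(image h) (2q + 2)`; if the image missed `S` it would have at most `(q-1)/2`
elements and `q² ≤ q² - 1`.  (4) If `t = 0` replace it by `t = 2`. -/
theorem exists_tz_odd {F : Type*} [Field F] [Fintype F] (h2 : (2 : F) ≠ 0) (h3 : (3 : F) ≠ 0) :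
    ∃ t z : F, t ≠ 0 ∧ z ^ 2 - (t ^ 3 - 4 * t) * z + 1 = 0 := by
  obtain ⟨z, t, hz, -, h⟩ := CL.BG.OddX.ex h2 h3
  have h1 : z * z⁻¹ = 1 := mul_inv_cancel₀ hz
  by_cases ht : t = 0
  · subst ht
    exact ⟨2, z, h2, by linear_combination z * h - h1⟩
  · exact ⟨t, z, ht, by linear_combination z * h - h1⟩

/-- `r = 2`: `t = 1` and any `z ≠ 0, 1` (`z ^ 3 = 1`, so `z² + z + 1 = 0`).  `r` odd: `3` is coprime to
`2 ^ r - 1`, so cubing is injective (kernel trivial on `Fˣ`), hence onto; take `z ≠ 0, 1` and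
`t ^ 3 = z + z⁻¹ ≠ 0`. -/
theorem exists_tz_two {F : Type*} [Field F] [Fintype F] {r : ℕ} (hr : r.Prime)
    (hF : Fintype.card F = 2 ^ r) :
    ∃ t z : F, t ≠ 0 ∧ z ^ 2 - (t ^ 3 - 4 * t) * z + 1 = 0 := by
  classical
  have h2 : (2 : F) = 0 := by
    have h := FiniteField.cast_card_eq_zero F
    rw [hF, Nat.cast_pow] at h
    exact_mod_cast pow_eq_zero_iff hr.ne_zero |>.1 h
  have h4 : 2 < Fintype.card F := by
    rw [hF]
    calc 2 < 2 ^ 2 := by norm_num
      _ ≤ 2 ^ r := Nat.pow_le_pow_right two_pos hr.two_le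
  obtain ⟨z, hz⟩ : ∃ z : F, z ∉ ({0, 1} : Finset F) := by
    by_contra h
    have h5 : (Finset.univ : Finset F) ⊆ {0, 1} := fun z _ => not_not.1 (not_exists.1 h z)
    have h6 := (Finset.card_le_card h5).trans Finset.card_le_two
    rw [Finset.card_univ] at h6
    omega
  rw [Finset.mem_insert, Finset.mem_singleton, not_or] at hz
  obtain ⟨h0, h1⟩ := hz
  rcases hr.eq_two_or_odd' with rfl | ⟨k, rfl⟩
  · have h3 := FiniteField.pow_card_sub_one_eq_one z h0
    rw [hF] at h3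
    have h5 : (z - 1) * (z ^ 2 + z + 1) = 0 := by
      norm_num at h3
      linear_combination h3
    have h6 := (mul_eq_zero.1 h5).resolve_left (sub_ne_zero.2 h1)
    exact ⟨1, z, one_ne_zero, by linear_combination h6 + z * h2⟩
  · have hi : Function.Injective fun x : F => x ^ 3 := by
      obtain ⟨m, hm⟩ : ∃ m, 2 ^ (2 * k + 1) + 2 ^ (2 * k + 1) = 3 * m + 1 := by
        refine ⟨(2 ^ (2 * k + 1) + 2 ^ (2 * k + 1)) / 3, ?_⟩
        have : (2 ^ (2 * k + 1) + 2 ^ (2 * k + 1)) % 3 = 1 := by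
          rw [← two_mul, ← pow_succ', show 2 * k + 1 + 1 = 2 * (k + 1) by ring, pow_mul, Nat.pow_mod]
          simp
        omega
      have key : ∀ x : F, (x ^ 3) ^ m * x = x * x := fun x => by
        rw [← pow_mul, ← pow_succ, ← hm, pow_add, ← hF, FiniteField.pow_card]
      have key2 : ∀ x : F, x ≠ 0 → (x ^ 3) ^ m = x := fun x hx => mul_right_cancel₀ hx (key x)
      intro x y hxy
      have hxy' : x ^ 3 = y ^ 3 := hxy
      by_cases hx : x = 0
      · subst hx
        exact (pow_eq_zero_iff three_ne_zero |>.1 (hxy'.symm.trans (by simp))).symm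
      · have hy : y ≠ 0 := fun e => hx (pow_eq_zero_iff three_ne_zero |>.1 (hxy'.trans (by simp [e])))
        rw [← key2 x hx, hxy', key2 y hy]
    obtain ⟨t, ht⟩ := Finite.surjective_of_injective hi (z + z⁻¹)
    have ht' : t ^ 3 = z + z⁻¹ := ht
    have h3 : z * z⁻¹ = 1 := mul_inv_cancel₀ h0
    refine ⟨t, z, fun e => h1 ?_, by linear_combination -z * ht' - h3 + 2 * t * z * h2⟩
    rw [e] at ht'
    have h5 : (z - 1) ^ 2 = 0 := by linear_combination -z * ht' - h3 - z * h2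
    exact sub_eq_zero.1 (pow_eq_zero_iff two_ne_zero |>.1 h5)

end CL.VN
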