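import Cfsg.Agent.FGS.VN.Defs
import Cfsg.Agent.FGS.VN.Conic
import Cfsg.Agent.FGS.BWW

/-!
# The law fails in `L₂(q)`
-/

set_option autoImplicit false

namespace CL.VN

open Matrix

theorem SL2x.key {F : Type*} [Field F] {t u r p b : F} (h1 : t * u = 1)
    (h2 : r ^ 2 - t ^ 2 * r + 2 * t ^ 2 - 4 + u ^ 2 = 0)
    (h3 : p ^ 2 + t * p * b + b ^ 2 - (t - u) * p - r * b + 1 = 0) :
    !![t * p + b - r, t - u - p; -p + t * (t * p + b - r), -b + t * (t - u - p)] * !![t, -1; 1, 0] *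
      !![-b + t * (t - u - p), -(t - u - p); -(-p + t * (t * p + b - r)), t * p + b - r] * !![t, -1; 1, 0] *
      !![t * p + b - r, t - u - p; -p + t * (t * p + b - r), -b + t * (t - u - p)] =
    !![t, -1; 1, 0] * !![t, -1; 1, 0] *
      (!![t * p + b - r, t - u - p; -p + t * (t * p + b - r), -b + t * (t - u - p)] *
        !![t * p + b - r, t - u - p; -p + t * (t * p + b - r), -b + t * (t - u - p)]) *
      (!![t, -1; 1, 0] * !![t, -1; 1, 0]) := by
  simp only [Matrix.mul_fin_two]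
  congr 1
  refine Matrix.vec2_eq (Matrix.vec2_eq ?_ ?_) (Matrix.vec2_eq ?_ ?_) <;> grind

/-- `s = t - t⁻¹`, `r = 2 + z / t`, `p, b` from `exists_conic`; `x = !![t, -1; 1, 0]`,
`y = !![p, b; t * p + b - r, s - p]` have determinant 1 and `tr x = t`, `tr y = s`, `tr (x y) = r`.
Put `a = x`, `c = x⁻¹ y`; `Rel a c` is `y x⁻¹ x⁻¹ y⁻¹ x y⁻¹ = x⁻¹ y x⁻¹ y⁻¹ x x`, a polynomial identity
modulo `s t = t² - 1`, the conic and `r² - t² r + 2 t² - 4 + t⁻² = 0` (Cayley-Hamilton: both sides are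
combinations of `1, x, y, x y` with coefficients polynomial in `t, s, r`; or entrywise
`linear_combination` / `grind`).  `c a² = x⁻¹ y x²` is not scalar: else `y x = ± 1`, `s = ± t`, so
`2 t² = 1`, `r = -2`, `z = -4 t` and the equation of `z` reads `2 = 0`, contradicting `2 t² = 1`.
Finish with `Rel.not_law` and `BWW.mk_ne_one`. -/
theorem not_law_two {F : Type*} [Field F] [Fintype F] {t z : F} (ht : t ≠ 0)
    (hz : z ^ 2 - (t ^ 3 - 4 * t) * z + 1 = 0) (n : ℕ) :
    ¬ Law n (ProjectiveSpecialLinearGroup (Fin 2) F) := by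
  have h1 : t * t⁻¹ = 1 := mul_inv_cancel₀ ht
  obtain ⟨p, b, h3⟩ := exists_conic (s := t - t⁻¹) (r := 2 + z * t⁻¹) ht hz (by grind) (by grind)
  generalize hu : t⁻¹ = u at h1 h3
  have h2 : (2 + z * u) ^ 2 - t ^ 2 * (2 + z * u) + 2 * t ^ 2 - 4 + u ^ 2 = 0 := by grind
  generalize hr : 2 + z * u = r at h2 h3
  let a : SpecialLinearGroup (Fin 2) F := ⟨!![t, -1; 1, 0], by simp [det_fin_two]⟩
  let c : SpecialLinearGroup (Fin 2) F :=
    ⟨!![t * p + b - r, t - u - p; -p + t * (t * p + b - r), -b + t * (t - u - p)], by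
      rw [det_fin_two_of]; grind⟩
  have hR : Rel a c := by
    unfold Rel
    refine Subtype.ext ?_
    have ci : c.1.adjugate = !![-b + t * (t - u - p), -(t - u - p); -(-p + t * (t * p + b - r)), t * p + b - r] :=
      adjugate_fin_two_of _ _ _ _
    change c.1 * a.1 * c.1.adjugate * a.1 * c.1 = a.1 * a.1 * (c.1 * c.1) * (a.1 * a.1)
    rw [ci]
    exact SL2x.key h1 h2 h3
  refine hR.not_law _ (BWW.mk_ne_one fun k e => ?_) n
  change !![t * p + b - r, t - u - p; -p + t * (t * p + b - r), -b + t * (t - u - p)] *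
    (!![t, -1; 1, 0] * !![t, -1; 1, 0]) = _ at e
  simp only [Matrix.mul_fin_two] at e
  have e1 := congrFun (congrFun e 0) 0
  have e2 := congrFun (congrFun e 0) 1
  have e3 := congrFun (congrFun e 1) 0
  have e4 := congrFun (congrFun e 1) 1
  simp at e1 e2 e3 e4
  grind

end CL.VN
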