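import Cfsg.Agent.FGS.VN.Defs
import Cfsg.Agent.FGS.VN.Conic
import Cfsg.Agent.FGS.BWW

/-!
# The law fails in `L₂(q)` (second proof)
-/

set_option autoImplicit false

namespace CL.VN.SL2x

open Matrix

theorem rel {F : Type*} [Field F] {t w r p b : F} (h1 : t * w = 1)
    (h2 : p ^ 2 + t * p * b + b ^ 2 - (t - w) * p - r * b + 1 = 0)
    (h3 : r ^ 2 - t ^ 2 * r + 2 * t ^ 2 - 4 + w ^ 2 = 0)
    (a c : SpecialLinearGroup (Fin 2) F) (ha : a.1 = !![t, -1; 1, 0])
    (hc : c.1 = !![t * p + b - r, t - w - p; -p + t * (t * p + b - r), -b + t * (t - w - p)]) :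
    Rel a c := by
  unfold Rel
  apply Subtype.ext
  simp only [Matrix.SpecialLinearGroup.coe_mul, BWW.sl2_inv_val, ha, hc]
  simp only [Matrix.mul_fin_two, Matrix.of_apply, Matrix.cons_val', Matrix.cons_val_zero,
    Matrix.cons_val_one, Matrix.cons_val_fin_one]
  ext i j
  fin_cases i <;> fin_cases j <;>
    simp only [Matrix.of_apply, Matrix.cons_val', Matrix.cons_val_zero, Matrix.cons_val_one,
      Matrix.cons_val_fin_one, Fin.zero_eta, Fin.mk_one, Fin.isValue] <;> grind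

theorem not_law_two {F : Type*} [Field F] [Fintype F] {t z : F} (ht : t ≠ 0)
    (hz : z ^ 2 - (t ^ 3 - 4 * t) * z + 1 = 0) (n : ℕ) :
    ¬ Law n (ProjectiveSpecialLinearGroup (Fin 2) F) := by
  obtain ⟨w, h1⟩ : ∃ w, t * w = 1 := ⟨t⁻¹, mul_inv_cancel₀ ht⟩
  obtain ⟨r, hr⟩ : ∃ r, r = 2 + z * w := ⟨_, rfl⟩
  obtain ⟨p, b, h2⟩ := exists_conic (s := t - w) (r := r) ht hz (by grind) (by grind)
  have h3 : r ^ 2 - t ^ 2 * r + 2 * t ^ 2 - 4 + w ^ 2 = 0 := by grind
  let a : SpecialLinearGroup (Fin 2) F := ⟨!![t, -1; 1, 0], by simp [det_fin_two]⟩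
  let c : SpecialLinearGroup (Fin 2) F :=
    ⟨!![t * p + b - r, t - w - p; -p + t * (t * p + b - r), -b + t * (t - w - p)], by
      rw [det_fin_two_of]; grind⟩
  refine (rel h1 h2 h3 a c rfl rfl).not_law (QuotientGroup.mk' _) (BWW.mk_ne_one fun k e => ?_) n
  rw [Matrix.SpecialLinearGroup.coe_mul, Matrix.SpecialLinearGroup.coe_mul] at e
  change !![t * p + b - r, t - w - p; -p + t * (t * p + b - r), -b + t * (t - w - p)] *
    (!![t, -1; 1, 0] * !![t, -1; 1, 0]) = _ at e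
  simp only [Matrix.mul_fin_two] at e
  have e0 := congrFun (congrFun e 0) 0
  have e1 := congrFun (congrFun e 0) 1
  have e2 := congrFun (congrFun e 1) 0
  have e3 := congrFun (congrFun e 1) 1
  simp only [Matrix.of_apply, Matrix.cons_val', Matrix.cons_val_zero, Matrix.cons_val_one,
    Matrix.cons_val_fin_one, Matrix.scalar_apply, Matrix.diagonal_apply_eq, Fin.isValue,
    Matrix.diagonal_apply_ne _ (show (0 : Fin 2) ≠ 1 by decide),
    Matrix.diagonal_apply_ne _ (show (1 : Fin 2) ≠ 0 by decide)] at e0 e1 e2 e3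
  clear e
  grind

end CL.VN.SL2x
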