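import Mathlib

/-!
The trace of a field of order `2 ^ (2k+1)` and the map `y ↦ y ^ 2 ^ (k+1) + y`.
-/

set_option autoImplicit false

namespace CL.VN.SzA

open Finset Polynomial

variable {F : Type*} [Field F] [Fintype F] [CharP F 2] {k : ℕ}

omit [Fintype F] in
theorem T_add (n : ℕ) (a b : F) :
    ∑ i ∈ range n, (a + b) ^ 2 ^ i = ∑ i ∈ range n, a ^ 2 ^ i + ∑ i ∈ range n, b ^ 2 ^ i := by
  rw [← sum_add_distrib]
  exact sum_congr rfl fun i _ => add_pow_char_pow a b 2 i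

omit [CharP F 2] in
theorem T_sq {n : ℕ} (hF : Fintype.card F = 2 ^ n) (w : F) :
    ∑ i ∈ range n, (w ^ 2) ^ 2 ^ i = ∑ i ∈ range n, w ^ 2 ^ i := by
  have h1 : w ^ 2 ^ n = w := by rw [← hF, FiniteField.pow_card]
  have h2 := sum_range_succ (fun i => w ^ 2 ^ i) n
  rw [sum_range_succ', h1, pow_zero, pow_one] at h2
  rw [← add_right_cancel h2]
  exact sum_congr rfl fun i _ => by rw [← pow_mul, pow_succ']

omit [CharP F 2] in
theorem T_pow {n : ℕ} (hF : Fintype.card F = 2 ^ n) (j : ℕ) (w : F) :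
    ∑ i ∈ range n, (w ^ 2 ^ j) ^ 2 ^ i = ∑ i ∈ range n, w ^ 2 ^ i := by
  induction j with
  | zero => simp
  | succ j ih => rw [pow_succ, pow_mul, T_sq hF, ih]

theorem T_mul_self {n : ℕ} (hF : Fintype.card F = 2 ^ n) (w : F) :
    (∑ i ∈ range n, w ^ 2 ^ i) ^ 2 = ∑ i ∈ range n, w ^ 2 ^ i := by
  rw [sum_pow_char 2, ← T_sq hF w]
  exact sum_congr rfl fun i _ => by rw [← pow_mul, ← pow_mul, mul_comm]

theorem T_01 {n : ℕ} (hF : Fintype.card F = 2 ^ n) (w : F) :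
    ∑ i ∈ range n, w ^ 2 ^ i = 0 ∨ ∑ i ∈ range n, w ^ 2 ^ i = 1 := by
  have h := T_mul_self hF w
  rcases eq_or_ne (∑ i ∈ range n, w ^ 2 ^ i) 0 with h0 | h0
  · exact Or.inl h0
  · exact Or.inr (mul_left_cancel₀ h0 (by rw [← sq, h, mul_one]))

omit [Fintype F] in
theorem T_one : ∑ i ∈ range (2 * k + 1), (1 : F) ^ 2 ^ i = 1 := by
  simp only [one_pow, sum_const, card_range, nsmul_eq_mul, mul_one]
  push_cast
  rw [CharTwo.two_eq_zero, zero_mul, zero_add]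

theorem ex (hF : Fintype.card F = 2 ^ (2 * k + 1)) {w : F}
    (hw : ∑ i ∈ range (2 * k + 1), w ^ 2 ^ i = 0) : ∃ y : F, y ^ 2 ^ (k + 1) + y = w := by
  refine ⟨∑ i ∈ range k, (w ^ 2 ^ (k + 1)) ^ 2 ^ i, ?_⟩
  have h1 : w ^ 2 ^ (2 * k + 1) = w := by rw [← hF, FiniteField.pow_card]
  have h2 : (∑ i ∈ range k, (w ^ 2 ^ (k + 1)) ^ 2 ^ i) ^ 2 ^ (k + 1) = ∑ i ∈ range k, w ^ 2 ^ (i + 1) := by
    rw [sum_pow_char_pow 2]
    refine sum_congr rfl fun i _ => ?_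
    conv_rhs => rw [← h1]
    rw [← pow_mul, ← pow_mul, ← pow_mul]
    congr 1
    ring
  have h3 : ∑ i ∈ range (2 * k + 1), w ^ 2 ^ i =
      ∑ i ∈ range k, w ^ 2 ^ (i + 1) + w + ∑ i ∈ range k, (w ^ 2 ^ (k + 1)) ^ 2 ^ i := by
    rw [show 2 * k + 1 = (k + 1) + k by ring, sum_range_add, sum_range_succ', pow_zero, pow_one]
    congr 1
    exact sum_congr rfl fun i _ => by rw [← pow_mul, ← pow_add]
  rw [h2]
  rw [h3] at hw
  linear_combination hw - (CharTwo.two_eq_zero (R := F)) * w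

end CL.VN.SzA
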