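import Mathlib

/-!
# The trace condition for the Suzuki groups
-/

set_option autoImplicit false

namespace CL.VN.SzEx

open Finset Polynomial

variable {F : Type*} [Field F] [Fintype F] [CharP F 2] {k : ℕ}

/-- the absolute trace -/
def T (k : ℕ) (w : F) : F := ∑ i ∈ range (2 * k + 1), w ^ 2 ^ i

omit [Fintype F] in
theorem T_add (a b : F) : T k (a + b) = T k a + T k b := by
  simp only [T, add_pow_char_pow, sum_add_distrib]

omit [Fintype F] [CharP F 2] in
theorem T_zero : T k (0 : F) = 0 := by simp [T]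

omit [Fintype F] in
theorem T_one : T k (1 : F) = 1 := by
  simp [T, CharTwo.two_eq_zero]

omit [Fintype F] in
theorem T_sum (s : Finset F) (f : F → F) : T k (∑ x ∈ s, f x) = ∑ x ∈ s, T k (f x) := by
  classical
  induction s using Finset.induction_on with
  | empty => simp [T_zero]
  | insert a s ha ih => rw [sum_insert ha, sum_insert ha, T_add, ih]

variable (hF : Fintype.card F = 2 ^ (2 * k + 1))
include hF

omit [CharP F 2] in
theorem T_sq (w : F) : T k (w ^ 2) = T k w := by
  have h := FiniteField.pow_card w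
  rw [hF] at h
  have e : T k (w ^ 2) + w = T k w + w := by
    have := sum_range_succ' (fun i => w ^ 2 ^ i) (2 * k + 1)
    rw [sum_range_succ, h, pow_zero, pow_one] at this
    rw [T, T, this]
    congr 1
    exact sum_congr rfl fun i _ => by rw [← pow_mul, ← pow_succ']
  exact add_right_cancel e

omit [CharP F 2] in
theorem T_pow (w : F) (j : ℕ) : T k (w ^ 2 ^ j) = T k w := by
  induction j with
  | zero => simp
  | succ j ih => rw [pow_succ, pow_mul, T_sq hF, ih]

theorem T_01 (w : F) : T k w = 0 ∨ T k w = 1 := by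
  have : T k w ^ 2 = T k w := by
    rw [← T_sq hF w]
    nth_rewrite 1 [T_sq hF w]
    rw [T, T, sum_pow_char]
    exact sum_congr rfl fun i _ => by rw [← pow_mul, ← pow_mul, mul_comm]
  rcases eq_or_ne (T k w) 0 with h | h
  · exact Or.inl h
  · exact Or.inr (mul_left_cancel₀ h (by rw [← pow_two, this, mul_one]))

omit [Fintype F] [CharP F 2] hF in
theorem T_mul {c : F} (hc : c = 0 ∨ c = 1) (w : F) : T k (c * w) = c * T k w := by
  rcases hc with rfl | rfl <;> simp [T_zero]

omit [Fintype F] [CharP F 2] hF in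
theorem mon {p : F[X]} (hp : p.Monic) (hd : 0 < p.natDegree) {e : ℕ → ℕ} (j : ℕ) (he : ∀ i < j, e i < e j) :
    (∑ i ∈ range (j + 1), p ^ e i).Monic ∧ (∑ i ∈ range (j + 1), p ^ e i).natDegree = e j * p.natDegree := by
  have h : (∑ i ∈ range j, p ^ e i).degree < (p ^ e j).degree := by
    refine (degree_sum_le _ _).trans_lt ((Finset.sup_lt_iff (bot_lt_iff_ne_bot.2
      (degree_ne_bot.2 (hp.pow _).ne_zero))).2 fun i hi => degree_lt_degree ?_)
    rw [hp.natDegree_pow, hp.natDegree_pow]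
    exact Nat.mul_lt_mul_of_pos_right (he i (mem_range.1 hi)) hd
  rw [sum_range_succ]
  exact ⟨(hp.pow _).add_of_right h, by rw [natDegree_add_eq_right_of_degree_lt h, hp.natDegree_pow]⟩

omit [Fintype F] [CharP F 2] hF in
theorem monP : (∑ i ∈ range (2 * k + 1), (X : F[X]) ^ 2 ^ i).Monic ∧
    (∑ i ∈ range (2 * k + 1), (X : F[X]) ^ 2 ^ i).natDegree = 2 ^ (2 * k) := by
  simpa using mon (F := F) monic_X (by simp) (e := fun i => 2 ^ i) (2 * k)
    fun i hi => Nat.pow_lt_pow_right (by norm_num) hi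

omit [CharP F 2] hF in
theorem card_T [DecidableEq F] : (univ.filter fun w : F => T k w = 0).card ≤ 2 ^ (2 * k) := by
  obtain ⟨hm, hn⟩ := monP (F := F) (k := k)
  refine le_trans (card_le_card (t := (∑ i ∈ range (2 * k + 1), (X : F[X]) ^ 2 ^ i).roots.toFinset) fun w hw => ?_)
    ((Multiset.toFinset_card_le _).trans ((card_roots' _).trans hn.le))
  rw [Multiset.mem_toFinset, mem_roots hm.ne_zero, IsRoot]
  simpa [T, eval_finsetSum] using (mem_filter.1 hw).2

theorem as_of_tr {w : F} (hw : T k w = 0) : ∃ y : F, y ^ 2 ^ (k + 1) + y = w := by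
  classical
  let f : F → F := fun y => y ^ 2 ^ (k + 1) + y
  have h1 : univ.image f ⊆ univ.filter fun w : F => T k w = 0 := fun w hw => by
    obtain ⟨y, -, rfl⟩ := mem_image.1 hw
    exact mem_filter.2 ⟨mem_univ _, by rw [T_add, T_pow hF, CharTwo.add_self_eq_zero]⟩
  have h2 : (univ : Finset F).card ≤ 2 * (univ.image f).card := by
    refine card_le_mul_card_image _ 2 fun b hb => ?_
    obtain ⟨y, -, rfl⟩ := mem_image.1 hb
    refine le_trans (card_le_card (t := {y, y + 1}) fun z hz => ?_) card_le_two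
    have e : f z = f y := (mem_filter.1 hz).2
    have e1 : (z + y) ^ 2 ^ (k + 1) = z + y := by
      rw [add_pow_char_pow]
      have : (2 : F) = 0 := CharTwo.two_eq_zero
      simp only [f] at e
      linear_combination e + (y ^ 2 ^ (k + 1) - z) * this
    have e2 : (z + y) ^ 2 = z + y := by
      have h := FiniteField.pow_card (z + y)
      rw [hF] at h
      calc (z + y) ^ 2 = ((z + y) ^ 2 ^ (2 * k + 1)) ^ 2 := by rw [h]
        _ = ((z + y) ^ 2 ^ (k + 1)) ^ 2 ^ (k + 1) := by rw [← pow_mul, ← pow_mul]; congr 1; ring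
        _ = z + y := by rw [e1, e1]
    have : (2 : F) = 0 := CharTwo.two_eq_zero
    rw [mem_insert, mem_singleton]
    rcases eq_or_ne (z + y) 0 with h | h
    · exact Or.inl (by linear_combination h - y * this)
    · have : z + y = 1 := mul_left_cancel₀ h (by rw [← pow_two, e2, mul_one])
      exact Or.inr (by linear_combination this - y * ‹(2 : F) = 0›)
  rw [card_univ, hF, pow_succ'] at h2
  have h3 := eq_of_subset_of_card_le h1 ((card_T (k := k)).trans (by omega))
  have : w ∈ univ.image f := h3 ▸ mem_filter.2 ⟨mem_univ _, hw⟩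
  obtain ⟨y, -, hy⟩ := mem_image.1 this
  exact ⟨y, hy⟩

omit hF in
theorem sum_monic {G : F[X]} (hG : G.Monic) (hd : G.natDegree + 1 = Fintype.card F) :
    ∑ x : F, G.eval x = 1 := by
  classical
  have hd' : G.natDegree = Fintype.card F - 1 := by omega
  simp only [eval_eq_sum_range, sum_range_succ, sum_add_distrib]
  rw [sum_comm, sum_eq_zero fun i hi => by
    rw [← mul_sum, FiniteField.sum_pow_lt_card_sub_one F i (hd' ▸ mem_range.1 hi), mul_zero], zero_add,
    hG.coeff_natDegree]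
  have hp : G.natDegree ≠ 0 := by have := Fintype.one_lt_card (α := F); omega
  rw [← Finset.add_sum_erase _ _ (mem_univ (0 : F)), zero_pow hp, mul_zero, zero_add,
    sum_congr rfl fun x hx => by rw [one_mul, hd', FiniteField.pow_card_sub_one_eq_one x (ne_of_mem_erase hx)],
    sum_const, card_erase_of_mem (mem_univ _), card_univ, nsmul_one, Nat.cast_pred Fintype.card_pos,
    FiniteField.cast_card_eq_zero, zero_sub, CharTwo.neg_eq]

omit [Fintype F] hF in
theorem T_eq (x : F) : T k x = x + k + ∑ i ∈ range k, (1 + x + x ^ 2 ^ k) ^ 2 ^ (i + 1) := by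
  simp only [add_pow_char_pow, one_pow, sum_add_distrib, sum_const, card_range, nsmul_one, ← pow_mul, ← pow_add]
  rw [T, sum_range_succ', two_mul, sum_range_add, pow_zero, pow_one]
  have : (2 : F) = 0 := CharTwo.two_eq_zero
  simp only [add_assoc k]
  linear_combination (-(k : F)) * this

theorem exists_sz (hk : 1 ≤ k) :
    ∃ x y : F, x ≠ 0 ∧ x ≠ 1 ∧ 1 + x ^ 2 ^ (k + 1) + x ^ 2 ≠ 0 ∧
      (y ^ 2 ^ (k + 1) + y + 1) * (x * (1 + x ^ 2 ^ (k + 1) + x ^ 2)) =
        x ^ 2 ^ (k + 1) * (1 + x) := by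
  classical
  have two : (2 : F) = 0 := CharTwo.two_eq_zero
  have hE : ∀ x : F, 1 + x ^ 2 ^ (k + 1) + x ^ 2 ≠ 0 := fun x h => by
    have := congrArg (T k) h
    rw [T_add, T_add, T_pow hF, T_sq hF, T_one, T_zero, add_assoc, CharTwo.add_self_eq_zero, add_zero] at this
    exact one_ne_zero this
  have hε : ∀ x : F, (1 + x + x ^ 2 ^ k) ^ 2 = 1 + x ^ 2 ^ (k + 1) + x ^ 2 := fun x => by
    rw [pow_succ 2 k, pow_mul]
    linear_combination (x + x ^ 2 ^ k + x * x ^ 2 ^ k) * two
  obtain ⟨j, rfl⟩ : ∃ j, k = j + 1 := ⟨k - 1, by omega⟩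
  obtain ⟨s, hs⟩ : ∃ s, 2 ^ j = s + 1 := ⟨2 ^ j - 1, by have := Nat.one_le_two_pow (n := j); omega⟩
  have s1 : 2 ^ (j + 1) = 2 * s + 2 := by rw [pow_succ, hs]; ring
  have s2 : 2 ^ (j + 1 + 1) = 4 * s + 4 := by rw [pow_succ, s1]; ring
  have s3 : 2 ^ (2 * (j + 1)) = (2 * s + 2) ^ 2 := by rw [mul_comm, pow_mul, s1]
  have m1 : (1 + X : F[X]).Monic := by rw [add_comm]; exact monic_X_add_C 1
  have d1 : (1 + X : F[X]).natDegree = 1 := by rw [add_comm]; exact natDegree_X_add_C 1
  have hlt : (1 + X : F[X]).degree < (X ^ 2 ^ (j + 1) : F[X]).degree := degree_lt_degree (by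
    rw [d1, natDegree_X_pow]; omega)
  have mε := (monic_X_pow (R := F) _).add_of_right hlt
  have dε := (natDegree_add_eq_right_of_degree_lt hlt).trans (natDegree_X_pow _)
  obtain ⟨mW, dW⟩ := mon mε (by rw [dε]; omega) (e := fun i => 2 ^ (i + 1) - 2) j fun i hi => by
    have h1 : 2 ^ (i + 1) < 2 ^ (j + 1) := Nat.pow_lt_pow_right (by norm_num) (by omega)
    have h2 : 2 ^ 1 ≤ 2 ^ (i + 1) := Nat.pow_le_pow_right (by norm_num) (by omega)
    omega
  obtain ⟨mP, dP⟩ := monP (F := F) (k := j + 1)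
  have hP : (1 : F[X]).degree < (∑ i ∈ range (2 * (j + 1) + 1), (X : F[X]) ^ 2 ^ i).degree :=
    degree_lt_degree (by rw [dP, natDegree_one]; positivity)
  obtain ⟨V, mV, dV, hV⟩ : ∃ V : F[X], V.Monic ∧ V.natDegree = 4 * s + 3 ∧
      ∀ x : F, V.eval x * (x + (j + 1 : ℕ)) = x ^ (4 * s + 3) * (1 + x) := by
    rcases Nat.even_or_odd (j + 1) with h | h
    · refine ⟨X ^ (4 * s + 2) * (1 + X), (monic_X_pow _).mul m1, by
        rw [(monic_X_pow _).natDegree_mul m1, d1, natDegree_X_pow], fun x => ?_⟩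
      obtain ⟨m, hm⟩ := h
      rw [hm, Nat.cast_add, CharTwo.add_self_eq_zero]
      simp only [eval_mul, eval_pow, eval_add, eval_X, eval_one]
      ring
    · refine ⟨X ^ (4 * s + 3), monic_X_pow _, natDegree_X_pow _, fun x => ?_⟩
      obtain ⟨m, hm⟩ := h
      rw [hm, Nat.cast_add, Nat.cast_mul, Nat.cast_ofNat, two, Nat.cast_one]
      simp only [eval_pow, eval_X]
      ring
  have key := sum_monic ((mP.add_of_right hP).mul (mV.mul mW)) (by
    rw [(mP.add_of_right hP).natDegree_mul (mV.mul mW), mV.natDegree_mul mW, natDegree_add_eq_right_of_degree_lt hP,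
      dP, dV, dW, dε, hF, pow_succ _ (2 * _), s3, s1, Nat.add_sub_cancel]
    ring)
  let h : F → F := fun x => x ^ (4 * s + 3) * (1 + x) / (1 + x ^ 2 ^ (j + 1 + 1) + x ^ 2)
  rw [sum_congr rfl (g := fun x => (1 + T (j + 1) x) * h x) fun x _ => by
    rw [eval_mul, eval_add, eval_one, eval_finsetSum]
    simp only [eval_pow, eval_X]
    change (1 + T (j + 1) x) * _ = _
    rcases T_01 hF x with e | e
    · congr 1
      rw [eq_div_iff (hE x), ← hV, eval_mul, mul_assoc, ← hε, eval_finsetSum, sum_mul]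
      congr 1
      rw [T_eq] at e
      rw [sum_congr rfl (g := fun i => (1 + x + x ^ 2 ^ (j + 1)) ^ 2 ^ (i + 1)) fun i _ => by
        simp only [eval_pow, eval_add, eval_X, eval_one]
        rw [← pow_add, Nat.sub_add_cancel]
        exact Nat.pow_le_pow_right (n := 2) (i := 1) (by norm_num) (by omega)]
      linear_combination e - (x + (j + 1 : ℕ)) * two
    · rw [e, CharTwo.add_self_eq_zero, zero_mul, zero_mul]] at key
  have k2 := congrArg (T (j + 1)) key
  rw [T_sum, T_one] at k2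
  obtain ⟨x, -, hx⟩ := exists_ne_zero_of_sum_ne_zero (k2.trans_ne one_ne_zero)
  rcases T_01 hF x with e | e
  swap
  · rw [e, CharTwo.add_self_eq_zero, zero_mul, T_zero] at hx
    exact absurd rfl hx
  rw [e, add_zero, one_mul] at hx
  obtain ⟨y, hy⟩ := as_of_tr hF (w := h x + 1) (by
    rw [T_add, (T_01 hF _).resolve_left hx, T_one, CharTwo.add_self_eq_zero])
  refine ⟨x, y, fun h0 => hx (by simp [h, h0, T_zero]), fun h1 => one_ne_zero ((T_one (k := j + 1)).symm.trans (h1 ▸ e)),
    hE x, ?_⟩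
  have := hE x
  rw [hy, add_assoc, CharTwo.add_self_eq_zero, add_zero, mul_left_comm, div_mul_cancel₀ _ this, s2]
  ring

end CL.VN.SzEx
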