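import Mathlib

/-!
# The polynomial sum behind the trace condition for the Suzuki groups
-/

set_option autoImplicit false

namespace CL.VN.SzP

open Finset Polynomial

variable {F : Type*} [Field F] [Fintype F]

theorem sum_monic (Q : F[X]) (hQ : Q.Monic) (hd : Q.natDegree = Fintype.card F - 1) :
    ∑ x : F, Q.eval x = -1 := by
  classical
  have h1 : ∑ x : F, x ^ (Fintype.card F - 1) = -1 := by
    have hc : 1 < Fintype.card F := Fintype.one_lt_card
    have : ∀ x : F, x ^ (Fintype.card F - 1) = 1 - if x = 0 then 1 else 0 := by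
      intro x
      split_ifs with hx
      · rw [hx, zero_pow (by omega), sub_self]
      · rw [FiniteField.pow_card_sub_one_eq_one x hx, sub_zero]
    simp only [this, sum_sub_distrib, sum_const, card_univ, nsmul_eq_mul, mul_one,
      FiniteField.cast_card_eq_zero, sum_ite_eq', mem_univ, if_true, zero_sub]
  simp only [eval_eq_sum_range]
  rw [sum_comm, sum_range_succ, sum_eq_zero, zero_add, ← mul_sum, hQ.coeff_natDegree, one_mul, hd, h1]
  intro i hi
  rw [← mul_sum, FiniteField.sum_pow_lt_card_sub_one F i (hd ▸ mem_range.1 hi), mul_zero]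

variable [CharP F 2] {k : ℕ}

/-- the absolute trace -/
def T (k : ℕ) (w : F) : F := ∑ i ∈ range (2 * k + 1), w ^ 2 ^ i

omit [Fintype F] in
theorem T_add (a b : F) : T k (a + b) = T k a + T k b := by
  simp only [T, add_pow_char_pow, sum_add_distrib]

omit [Fintype F] [CharP F 2] in
theorem T_zero : T k (0 : F) = 0 := by
  simp [T]

omit [Fintype F] in
theorem T_one : T k (1 : F) = 1 := by
  simp only [T, one_pow, sum_const, card_range, nsmul_eq_mul, mul_one]
  push_cast
  rw [CharTwo.two_eq_zero, zero_mul, zero_add]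

omit [CharP F 2] in
theorem T_sq (hF : Fintype.card F = 2 ^ (2 * k + 1)) (w : F) : T k (w ^ 2) = T k w := by
  have h1 : w ^ 2 ^ (2 * k + 1) = w := by rw [← hF, FiniteField.pow_card]
  have h2 := sum_range_succ' (fun i => w ^ 2 ^ i) (2 * k + 1)
  rw [sum_range_succ, h1, pow_zero, pow_one] at h2
  have h3 : T k (w ^ 2) = ∑ i ∈ range (2 * k + 1), w ^ 2 ^ (i + 1) :=
    sum_congr rfl fun i _ => by rw [← pow_mul, pow_succ']
  rw [h3]
  exact (add_right_cancel h2).symm

omit [CharP F 2] in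
theorem T_pow (hF : Fintype.card F = 2 ^ (2 * k + 1)) (w : F) (j : ℕ) : T k (w ^ 2 ^ j) = T k w := by
  induction j with
  | zero => rw [pow_zero, pow_one]
  | succ j ih => rw [pow_succ, pow_mul, T_sq hF, ih]

theorem T_or (hF : Fintype.card F = 2 ^ (2 * k + 1)) (w : F) : T k w = 0 ∨ T k w = 1 := by
  have h : T k w ^ 2 = T k w := by
    conv_rhs => rw [← T_sq hF w]
    rw [T, sum_pow_char]
    exact sum_congr rfl fun i _ => by rw [← pow_mul, ← pow_mul, mul_comm]
  have : T k w * (T k w - 1) = 0 := by rw [mul_sub, ← pow_two, h, mul_one, sub_self]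
  rcases mul_eq_zero.1 this with h | h
  · exact .inl h
  · exact .inr (sub_eq_zero.1 h)

omit [Fintype F] in
theorem T_sum {ι : Type*} (s : Finset ι) (f : ι → F) : T k (∑ i ∈ s, f i) = ∑ i ∈ s, T k (f i) := by
  classical
  induction s using Finset.induction_on with
  | empty => simp [T_zero]
  | insert a s ha ih => rw [sum_insert ha, sum_insert ha, T_add, ih]

theorem E_ne (hF : Fintype.card F = 2 ^ (2 * k + 1)) (x : F) :
    1 + x ^ 2 ^ (k + 1) + x ^ 2 ≠ 0 := by
  intro h
  have := congrArg (T k) h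
  rw [T_add, T_add, T_one, T_pow hF, T_sq hF, add_assoc, CharTwo.add_self_eq_zero, add_zero,
    T_zero] at this
  exact one_ne_zero this

omit [Fintype F] in
theorem T_eq (x : F) :
    T k x = x + k + ∑ i ∈ range k, (1 + x + x ^ 2 ^ k) ^ 2 ^ (i + 1) := by
  have h1 : ∀ i, (1 + x + x ^ 2 ^ k) ^ 2 ^ (i + 1) = 1 + x ^ 2 ^ (i + 1) + x ^ 2 ^ (k + i + 1) := by
    intro i
    rw [add_pow_char_pow, add_pow_char_pow, one_pow, ← pow_mul, ← pow_add, add_assoc k]
  simp only [h1, sum_add_distrib, sum_const, card_range, nsmul_eq_mul, mul_one]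
  rw [T, sum_range_succ', two_mul, sum_range_add, pow_zero, pow_one]
  have h2 : (k : F) + k = 0 := CharTwo.add_self_eq_zero _
  linear_combination (-1 : F) * h2

theorem ex (hk : 1 ≤ k) (hF : Fintype.card F = 2 ^ (2 * k + 1)) :
    ∃ x : F, T k x = 0 ∧ 1 + x ^ 2 ^ (k + 1) + x ^ 2 ≠ 0 ∧
      T k (x ^ (2 ^ (k + 1) - 1) * (1 + x) / (1 + x ^ 2 ^ (k + 1) + x ^ 2)) = 1 := by
  classical
  obtain ⟨m, rfl⟩ : ∃ m, k = m + 1 := ⟨k - 1, by omega⟩
  have h2 : (2 : F) = 0 := CharTwo.two_eq_zero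
  obtain ⟨s, hs⟩ : ∃ s, 2 ^ (m + 1) = s + 2 := ⟨2 ^ (m + 1) - 2, by
    have : 2 ≤ 2 ^ (m + 1) := by rw [pow_succ]; have := Nat.one_le_two_pow (n := m); omega
    omega⟩
  have hr : 2 ^ (m + 1 + 1) = 2 * s + 4 := by rw [pow_succ, hs]; ring
  -- the three factors
  obtain ⟨P, hPm, hPd, hP⟩ : ∃ P : F[X], P.Monic ∧ P.natDegree = (s + 2) * (s + 2) ∧
      ∀ x, P.eval x = 1 + T (m + 1) x := by
    have hN : 2 ^ (2 * (m + 1)) = (s + 2) * (s + 2) := by rw [two_mul, pow_add, hs]
    have hp : (1 + ∑ i ∈ range (2 * (m + 1)), (X : F[X]) ^ 2 ^ i).degree <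
        ((2 ^ (2 * (m + 1)) : ℕ) : WithBot ℕ) := by
      refine (degree_add_le _ _).trans_lt (max_lt ?_ ?_)
      · rw [degree_one]
        exact_mod_cast Nat.pos_of_ne_zero (by positivity)
      refine (degree_sum_le _ _).trans_lt ((Finset.sup_lt_iff (WithBot.bot_lt_coe _)).2 fun i hi => ?_)
      rw [degree_X_pow]
      exact_mod_cast Nat.pow_lt_pow_right (by norm_num) (mem_range.1 hi)
    refine ⟨X ^ 2 ^ (2 * (m + 1)) + (1 + ∑ i ∈ range (2 * (m + 1)), X ^ 2 ^ i), monic_X_pow_add hp,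
      ?_, fun x => ?_⟩
    · rw [natDegree_add_eq_left_of_degree_lt (by rwa [degree_X_pow]), natDegree_X_pow, hN]
    · rw [T, sum_range_succ]
      simp only [eval_add, eval_pow, eval_X, eval_one, eval_finsetSum]
      ring
  obtain ⟨V, hVm, hVd, hV⟩ : ∃ V : F[X], V.Monic ∧ V.natDegree = 2 * s + 3 ∧
      ∀ x, V.eval x * (x + (m + 1 : ℕ)) = x ^ (2 * s + 3) * (1 + x) := by
    rcases Nat.even_or_odd' (m + 1) with ⟨j, hj | hj⟩
    · have hm : (X + C (1 : F)).Monic := monic_X_add_C 1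
      refine ⟨X ^ (2 * s + 2) * (X + C 1), (monic_X_pow _).mul hm, ?_, fun x => ?_⟩
      · rw [(monic_X_pow _).natDegree_mul hm, natDegree_X_pow, natDegree_X_add_C]
      · rw [hj]
        simp only [eval_mul, eval_pow, eval_X, eval_add, eval_C]
        push_cast
        rw [h2]
        ring
    · refine ⟨X ^ (2 * s + 3), monic_X_pow _, natDegree_X_pow _, fun x => ?_⟩
      rw [hj]
      simp only [eval_pow, eval_X]
      push_cast
      rw [h2]
      ring
  obtain ⟨W, hWm, hWd, hW⟩ : ∃ W : F[X], W.Monic ∧ W.natDegree = (s + 2) * s ∧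
      ∀ x, (1 + x + x ^ 2 ^ (m + 1)) ^ 2 * W.eval x =
        ∑ i ∈ range (m + 1), (1 + x + x ^ 2 ^ (m + 1)) ^ 2 ^ (i + 1) := by
    have hp : (X + C (1 : F)).degree < ((s + 2 : ℕ) : WithBot ℕ) := by
      rw [degree_X_add_C]
      exact_mod_cast (by omega : 1 < s + 2)
    have hem : (X ^ (s + 2) + (X + C (1 : F))).Monic := monic_X_pow_add hp
    have hed : (X ^ (s + 2) + (X + C (1 : F))).natDegree = s + 2 := by
      rw [natDegree_add_eq_left_of_degree_lt (by rwa [degree_X_pow]), natDegree_X_pow]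
    have hq : (∑ i ∈ range m, (X : F[X]) ^ (2 ^ (i + 1) - 2)).degree < ((s : ℕ) : WithBot ℕ) := by
      refine (degree_sum_le _ _).trans_lt ((Finset.sup_lt_iff (WithBot.bot_lt_coe _)).2 fun i hi => ?_)
      rw [degree_X_pow]
      have h3 : 2 ^ (i + 1) < 2 ^ (m + 1) :=
        Nat.pow_lt_pow_right (by norm_num) (by have := mem_range.1 hi; omega)
      have h4 : 2 ≤ 2 ^ (i + 1) := by rw [pow_succ]; have := Nat.one_le_two_pow (n := i); omega
      exact_mod_cast (by omega : 2 ^ (i + 1) - 2 < s)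
    have hum : (X ^ s + ∑ i ∈ range m, (X : F[X]) ^ (2 ^ (i + 1) - 2)).Monic := monic_X_pow_add hq
    have hud : (X ^ s + ∑ i ∈ range m, (X : F[X]) ^ (2 ^ (i + 1) - 2)).natDegree = s := by
      rw [natDegree_add_eq_left_of_degree_lt (by rwa [degree_X_pow]), natDegree_X_pow]
    refine ⟨(X ^ s + ∑ i ∈ range m, (X : F[X]) ^ (2 ^ (i + 1) - 2)).comp (X ^ (s + 2) + (X + C 1)),
      hum.comp hem (by omega), by rw [natDegree_comp, hud, hed, mul_comm], fun x => ?_⟩
    rw [eval_comp, sum_range_succ, hs]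
    simp only [eval_add, eval_pow, eval_X, eval_C, eval_finsetSum]
    have he : x ^ (s + 2) + (x + 1) = 1 + x + x ^ (s + 2) := by ring
    rw [he, mul_add, mul_sum, add_comm, ← pow_add, add_comm 2 s]
    congr 1
    refine sum_congr rfl fun i _ => ?_
    have h4 : 2 ≤ 2 ^ (i + 1) := by rw [pow_succ]; have := Nat.one_le_two_pow (n := i); omega
    rw [← pow_add]
    congr 1
    omega
  have hcard : Fintype.card F = 2 * ((s + 2) * (s + 2)) := by
    rw [hF, pow_succ, two_mul, pow_add, hs, mul_comm]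
  have hS := sum_monic (P * V * W) ((hPm.mul hVm).mul hWm) (by
    rw [(hPm.mul hVm).natDegree_mul hWm, hPm.natDegree_mul hVm, hPd, hVd, hWd, hcard]
    have : 2 * ((s + 2) * (s + 2)) = (s + 2) * (s + 2) + (2 * s + 3) + (s + 2) * s + 1 := by ring
    omega)
  by_contra hne
  push Not at hne
  have hT := congrArg (T (m + 1)) hS
  rw [T_sum, CharTwo.neg_eq, T_one, sum_eq_zero] at hT
  · exact zero_ne_one hT
  intro x _
  rw [eval_mul, eval_mul, hP]
  rcases T_or hF x with h0 | h1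
  · have hE := E_ne hF x
    have e1 : (1 + x + x ^ 2 ^ (m + 1)) ^ 2 = 1 + x ^ 2 ^ (m + 1 + 1) + x ^ 2 := by
      rw [add_pow_char, add_pow_char, one_pow, ← pow_mul, ← pow_succ]
      ring
    have e2 : x + (m + 1 : ℕ) = (1 + x ^ 2 ^ (m + 1 + 1) + x ^ 2) * W.eval x := by
      have := T_eq (k := m + 1) x
      rw [h0, ← hW, e1] at this
      linear_combination (-1 : F) * this - ((1 + x ^ 2 ^ (m + 1 + 1) + x ^ 2) * W.eval x) * h2
    have e3 : V.eval x * W.eval x =
        x ^ (2 ^ (m + 1 + 1) - 1) * (1 + x) / (1 + x ^ 2 ^ (m + 1 + 1) + x ^ 2) := by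
      have e4 : 2 ^ (m + 1 + 1) - 1 = 2 * s + 3 := by omega
      rw [eq_div_iff hE, e4, ← hV, e2]
      ring
    rw [h0, add_zero, one_mul, e3]
    exact (T_or hF _).resolve_right (hne x h0 hE)
  · rw [h1, CharTwo.add_self_eq_zero, zero_mul, zero_mul, T_zero]

end CL.VN.SzP
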