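import Cfsg.Agent.FGS.VN.SzE
import Cfsg.Agent.FGS.VN.Defs
import Cfsg.Agent.CHEV.SzModel

/-!
# The relation `Rel` in the Suzuki groups: the matrix identity
-/

set_option autoImplicit false

namespace CL.VN.SzQ

variable {F : Type*} [Field F]

theorem mul4 (a00 a01 a02 a03 a10 a11 a12 a13 a20 a21 a22 a23 a30 a31 a32 a33
    b00 b01 b02 b03 b10 b11 b12 b13 b20 b21 b22 b23 b30 b31 b32 b33 : F) :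
    !![a00, a01, a02, a03; a10, a11, a12, a13; a20, a21, a22, a23; a30, a31, a32, a33] *
      !![b00, b01, b02, b03; b10, b11, b12, b13; b20, b21, b22, b23; b30, b31, b32, b33] =
    !![a00 * b00 + a01 * b10 + a02 * b20 + a03 * b30, a00 * b01 + a01 * b11 + a02 * b21 + a03 * b31,
        a00 * b02 + a01 * b12 + a02 * b22 + a03 * b32, a00 * b03 + a01 * b13 + a02 * b23 + a03 * b33;
      a10 * b00 + a11 * b10 + a12 * b20 + a13 * b30, a10 * b01 + a11 * b11 + a12 * b21 + a13 * b31,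
        a10 * b02 + a11 * b12 + a12 * b22 + a13 * b32, a10 * b03 + a11 * b13 + a12 * b23 + a13 * b33;
      a20 * b00 + a21 * b10 + a22 * b20 + a23 * b30, a20 * b01 + a21 * b11 + a22 * b21 + a23 * b31,
        a20 * b02 + a21 * b12 + a22 * b22 + a23 * b32, a20 * b03 + a21 * b13 + a22 * b23 + a23 * b33;
      a30 * b00 + a31 * b10 + a32 * b20 + a33 * b30, a30 * b01 + a31 * b11 + a32 * b21 + a33 * b31,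
        a30 * b02 + a31 * b12 + a32 * b22 + a33 * b32, a30 * b03 + a31 * b13 + a32 * b23 + a33 * b33] := by
  ext i j
  fin_cases i <;> fin_cases j <;> simp [Matrix.mul_apply, Fin.sum_univ_four]

omit [Field F] in
theorem ext4 {a00 a01 a02 a03 a10 a11 a12 a13 a20 a21 a22 a23 a30 a31 a32 a33
    b00 b01 b02 b03 b10 b11 b12 b13 b20 b21 b22 b23 b30 b31 b32 b33 : F}
    (h00 : a00 = b00) (h01 : a01 = b01) (h02 : a02 = b02) (h03 : a03 = b03)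
    (h10 : a10 = b10) (h11 : a11 = b11) (h12 : a12 = b12) (h13 : a13 = b13)
    (h20 : a20 = b20) (h21 : a21 = b21) (h22 : a22 = b22) (h23 : a23 = b23)
    (h30 : a30 = b30) (h31 : a31 = b31) (h32 : a32 = b32) (h33 : a33 = b33) :
    !![a00, a01, a02, a03; a10, a11, a12, a13; a20, a21, a22, a23; a30, a31, a32, a33] =
      !![b00, b01, b02, b03; b10, b11, b12, b13; b20, b21, b22, b23; b30, b31, b32, b33] := by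
  subst_vars; rfl

/-- `J u(a, b)`. -/
def mA (a A b B : F) : Matrix (Fin 4) (Fin 4) F :=
  !![0, 0, 0, 1; 0, 0, 1, a; 0, 1, A, b; 1, a, a * A + b, a * b + a ^ 2 * A + B]

/-- its inverse. -/
def mA' (a A b B : F) : Matrix (Fin 4) (Fin 4) F :=
  !![a * b + a ^ 2 * A + B, b, a, 1; a * A + b, A, 1, 0; a, 1, 0, 0; 1, 0, 0, 0]

/-- `u(g, d)`. -/
def mC (g G d D : F) : Matrix (Fin 4) (Fin 4) F :=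
  !![1, g, g * G + d, g * d + g ^ 2 * G + D; 0, 1, G, d; 0, 0, 1, g; 0, 0, 0, 1]

/-- its inverse. -/
def mC' (g G d D : F) : Matrix (Fin 4) (Fin 4) F :=
  !![1, g, d, g * d + g ^ 2 * G + D; 0, 1, G, g * G + d; 0, 0, 1, g; 0, 0, 0, 1]

variable [CharP F 2]

set_option maxHeartbeats 4000000 in
set_option maxRecDepth 100000 in
theorem mat (a A z S b B g G d D : F) (hB : B = a * b + a ^ 2 * A + (1 + z * S) + A)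
    (hg : g = a * (1 + z)) (hG : G = A * (1 + S ^ 2))
    (hd : d = (1 + S ^ 2) * z * (a * (1 + z * S) + b) + (1 + z) * (b + a * A))
    (hD : D = (1 + z ^ 2) * S ^ 2 * (A * (1 + z * S ^ 2) + B) + (1 + S ^ 2) * (B + a ^ 2 * A))
    (h0 : a^2 + a*A*b + A^2 + A*z*S + A + z*S^2 + b^2 + 1 = 0)
    (h1 : a^2*z^2*S^2 + a^2*z^2 + A*z^2*S^3 + A*z*S^3 + A*z*S^2 + A*S^2 + z^2*S^2 + z*S^2 + 1 = 0)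
    (h2 : a^2*A*S^2 + a^2*A + A^2*z*S^3 + A^2*z*S^2 + A^2*S^3 + A^2*S^2 + A*z^2*S^4 + A*z^2*S^3 + A*z*S^4 + A*z*S^3 + A*z*S + A*S + A + z^2*S^3 + z^2*S^2 + z*S^2 = 0)
    (h3 : a^2*A*z*S^2 + a^2*A*z + A^2*z*S^3 + A^2*z*S^2 + A^2*S^3 + A^2*S^2 + A*z^2*S^3 + A*z*S^3 + A*z*S + A*S + A + z^2*S^2 = 0)
    (h4 : A^2*z^2*S^2 + A^2*S^2 + A*z^3*S^3 + A*z^2*S^3 + A*z^2*S^2 + A*z^2*S + A*z*S^2 + A*z*S + A*z + A + z^3*S^2 = 0)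
    : mA a A b B * mC' g G d D * mA a A b B * mC g G d D * mA' a A b B * mA' a A b B =
      mC' g G d D * mA a A b B * mA a A b B * mC g G d D * mC g G d D := by
  simp only [mA, mA', mC, mC', mul4]
  subst hD hB hg hG hd
  refine ext4 ?_ ?_ ?_ ?_ ?_ ?_ ?_ ?_ ?_ ?_ ?_ ?_ ?_ ?_ ?_ ?_
  · clear h0 h1 h2 h3 h4; grind
  · linear_combination (norm := skip) (a*z*S^2 + a) * h0 + (a*z^2*S^2 + a*z*S^2 + a) * h1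
    clear h0 h1 h2 h3 h4; grind
  · linear_combination (norm := skip) (a*A*z^2*S^4 + a*A*z^2*S^2 + a*A*z*S^4 + a*A*S^2 + z*S^2*b + b) * h0 + (a*A^2*z^2*S^3 + a*A^2*z^2*S + a*A^2*z*S^2 + a*A^2*z + a*A^2*S^3 + a*A^2*S + a*A*z^3*S^4 + a*A*z^3*S^2 + a*A*z^2*S^2 + a*A*z*S^4 + a*A*z*S^2 + a*A*z + a*A*S^2 + z^2*S^2*b + z*S^2*b + b) * h1 + (a*A*S^2 + a*A) * h3
    clear h0 h1 h2 h3 h4; grind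
  · linear_combination (norm := skip) (a^2*A*z^3*S^4 + a^2*A*z^3*S^2 + a^2*A*z*S^4 + a^2*A*z*S^2 + a^2*z^3*S^3 + a^2*z^3*S + a^2*z^2*S^3 + a^2*z^2*S^2 + a^2*z^2*S + a^2*z^2 + a^2*z*S^2 + a^2*z + a*z*S^2*b + a*z*b + A*z^3*S^4 + A*z*S^4 + A*S^2 + A + z^3*S^3 + z^2*S^3 + z^2*S^2 + z*S^2) * h0 + (a^2*A^2*z^3*S^3 + a^2*A^2*z^3*S + a^2*A^2*z^2*S^3 + a^2*A^2*z^2*S^2 + a^2*A^2*z^2*S + a^2*A^2*z^2 + a^2*A^2*z*S^3 + a^2*A^2*z*S^2 + a^2*A^2*z*S + a^2*A^2*z + a^2*A^2*S^3 + a^2*A^2*S^2 + a^2*A^2*S + a^2*A^2 + a^2*A*z^4*S^4 + a^2*A*z^4*S^2 + a^2*A*z^2*S^4 + a^2*A*z^2 + a^2*A*z*S^2 + a^2*A*z + a^2*A*S^2 + a^2*A + a*A*z^2*S^3*b + a*A*z^2*S*b + a*A*z*S^2*b + a*A*z*b + a*A*S^3*b + a*A*S*b + A^3*S^2 + A^2*z*S^3 + A^2*S^2 + A^2*S + A*z^2*S^2 + A*z*S^4 + A*S^4 + A*S^3 + A + z^3*S^3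 + z^2*S^2 + z*S^3) * h1 + (A^2*z*S^2 + A^2*z*S + A^2*z + A^2*S^2 + A*z*S^3 + A*z*S^2 + A*S^3 + A + S + 1) * h2 + (a^2*A*S^2 + a^2*A + a^2*S^2 + a^2 + a*S^2*b + a*b + A^2*S^2 + A^2*S + A^2 + A*S^3 + A*S + A + S^3 + S + 1) * h3 + (A^2) * h4
    clear h0 h1 h2 h3 h4; grind
  · linear_combination (norm := skip) (a*z^2*S^2 + a*z) * h0 + (a*A*z^2*S + a*A*z*S + a*A*z + a*A + a*z^3*S^2 + a*z^2*S^2 + a*z) * h1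
    clear h0 h1 h2 h3 h4; grind
  · linear_combination (norm := skip) (a^2*z^2*S^2 + a^2*z^2) * h0 + (a^2 + a*z^2*S*b + a*z*S*b + a*z*b + a*b) * h1
    clear h0 h1 h2 h3 h4; grind
  · linear_combination (norm := skip) (A*S^2 + A + z^2*S^3 + z*S^2 + z*S + 1) * h0 + (a^2*A + a^2*z^2*S + a^2*z*S + a^2*z + a^2 + a*b + A^3*S^2 + A^2*z*S + A^2*S^2 + A^2*S + A^2 + A*z^2*S^4 + A*z^2*S^2 + A*z*S^4 + A*S^2 + z*S + 1) * h1 + (a*z*S*b + a*z*b + A^2*z*S^2 + A^2*z*S + A^2*z + A^2*S^2 + A*z^2*S^3 + A*z^2*S^2 + A*z*S^3 + A*z*S + A*z + A*S^2 + z*S^2 + z*S + 1) * h2 + (a*S*b + a*b + A^2*S^2 + A^2*S + A^2 + A*S^2 + A*S + S) * h3 + (A^2 + A) * h4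
    clear h0 h1 h2 h3 h4; grind
  · linear_combination (norm := skip) (a*A*z^2*S^4 + a*A*z^2*S^2 + a*A*z*S^4 + a*A*z*S^2 + a*A*z + a*A + a*z^2*S^3 + a*z^2*S + a*z*S^2 + a*z + z*S^2*b + b) * h0 + (a*A^3*z*S^2 + a*A^3*S + a*A^3 + a*A^2*z^2*S + a*A^2*z*S^3 + a*A^2*z*S^2 + a*A^2*z + a*A^2*S^3 + a*A^2*S + a*A*z^3*S^4 + a*A*z^3*S^2 + a*A*z^2*S^4 + a*A*z^2*S^2 + a*A*z*S^2 + a*A*z + a*A*S^2 + a*A*S + a*A + a*z^2*S + a*z*S + a*z + a + A^2*z*S^2*b + A^2*S*b + A^2*b + A*z^2*S^3*b + A*z*S^2*b + A*S^3*b + b) * h1 + (a*A^2*z^2*S^2 + a*A^2*z^2*S + a*A^2*z^2 + a*A^2*z + a*A^2*S^2 + a*A*z^3*S^3 + a*A*z^3*S^2 + a*A*z^2*S^3 + a*A*z*S^2 + a*z^2*S^2 + a*z^2*S + a*z*S^2 + a*z*S + a*z + a + A*z^2*S^2*b + A*z^2*S*b + A*z^2*b + A*z*b + A*S^2*b + z*S*b + z*b) * h2 + (a*A^2*S^2 + a*A^2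 + a*A*S^2 + a*A + a*S + a + A*S^2*b + A*b + S^2*b + S*b + b) * h3 + (a*A^2*z + A*z*b + b) * h4
    clear h0 h1 h2 h3 h4; grind
  · linear_combination (norm := skip) (a*A*z^2*S^4 + a*A*z^2*S^2 + a*A*z*S^4 + a*A*z + a*A*S^2 + a*A + a*z^3*S^5 + a*z^3*S^3 + a*z^2*S^4 + a*z^2*S^3 + a*z^2*S^2 + a*z^2*S + a*z*S^2 + a*z + z^2*S^4*b + z*S^2*b) * h0 + (a*A^2*z^2*S^3 + a*A^2*z^2*S + a*A^2*z*S^2 + a*A^2*z + a*A^2*S^3 + a*A^2*S + a*A*z^2*S^4 + a*A*z^2*S^2 + a*A*z*S^4 + a*A*z*S^2 + a*z^4*S^5 + a*z^4*S^3 + a*z^3*S^5 + a*z^3*S^4 + a*z^3*S^3 + a*z^3*S^2 + a*z^2*S^4 + a*z^2*S^3 + a*z^2*S^2 + a*z^2*S + a*z*S^2 + a*z + A*z^2*S^3*b + A*z*S^3*b + A*z*S^2*b + A*S^2*b + z^3*S^4*b + z^2*S^4*b + z*S^2*b) * h1 + (a*A*S^2 + a*A) * h3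
    clear h0 h1 h2 h3 h4; grind
  · linear_combination (norm := skip) (a^2*A*z^2*S^4 + a^2*A*z^2 + a^2*A*z*S^4 + a^2*A*z + a^2*z^4*S^5 + a^2*z^4*S^3 + a^2*z^3*S^4 + a^2*z^3*S^3 + a^2*z^3*S^2 + a^2*z^3*S + a^2*z^2*S^2 + a^2*z^2 + a*z^2*S^4*b + a*z^2*S^2*b + A*z^4*S^6 + A*z^2*S^6 + A*z^2*S^4 + A*S^2 + z^4*S^5 + z^3*S^4 + z^2*S^3 + z*S^2) * h0 + (a^2*A*S^2 + a^2*A + a^2*z^2*S^3 + a^2*z*S^2 + a^2*z*S + a^2 + a*A*z^2*S*b + a*A*z*S^3*b + a*A*z*b + a*A*S^3*b + a*A*S^2*b + a*A*S*b + a*z^3*S^4*b + a*z^3*S^2*b + a*z^2*S^4*b + a*z^2*S^2*b + a*z*S^2*b + a*z*b + a*b + A^2*z^2*S^3 + A^2*z*S^3 + A^2*z*S^2 + A^2*S^3 + A^2*S^2 + A*z^3*S^4 + A*z^2*S^4 + A*S^4 + z^3*S^5 + z^2*S^4 + z*S^3) * h1 + (A*z*S^3 + A*z*S^2 + A*z*S + A*z + A*S^3 + z^2*S^4 + z^2*S^3 + z*S + z + S + 1) *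 h2 + (a^2*S^2 + a^2 + a*S^2*b + a*b + A*S^3 + A*S^2 + A*S + A + S^3 + S^2) * h3 + (A + 1) * h4
    clear h0 h1 h2 h3 h4; grind
  · linear_combination (norm := skip) (a^2*z^2*S^4 + a^2*z^2*S^2 + z^2*S^4 + z*S^2 + 1) * h0 + (a^2*A^2*S^2 + a^2*A^2 + a^2*A*z^2*S^3 + a^2*A*z^2*S + a^2*A*z*S^3 + a^2*A*z*S^2 + a^2*A*z*S + a^2*A*z + a^2*A*S^3 + a^2*A*S^2 + a^2*A*S + a^2*A + a^2*z^3*S^4 + a^2*z^3*S^2 + a^2*z^2*S^4 + a^2*z^2*S^2 + a^2*z*S^2 + a^2*z + a^2 + a*A*S^2*b + a*A*b + a*z^2*S^3*b + a*z*S^2*b + a*z*S*b + a*b + A^3*S^3 + A^2*z*S^4 + A^2*S^4 + A^2*S^3 + A*z*S^3 + A*z*S + A*S^2 + A*S + A + z^2*S^4 + z^2*S^2 + 1) * h1 + (a*z*S^2*b + a*z*S*b + A^2*z*S^3 + A^2*z*S^2 + A^2*z*S + A^2*z + A^2*S^3 + A*S + z^2*S^3 + z^2*S^2 + z*S^2 + z*S + z + 1) * h2 + (a^2*A*S^2 + a^2*A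 + a^2*S^2 + a^2 + a*S*b + a*b + A^2*S^3 + A^2*S^2 + A^2*S + A^2 + A*S^3 + A*S) * h3 + (A^2 + 1) * h4
    clear h0 h1 h2 h3 h4; grind
  · linear_combination (norm := skip) (a*z^2*S^4 + a*z^2*S^2 + a*z + a) * h0 + (a*A^2*z + a*A^2*S^2 + a*A^2 + a*A*z^2*S^3 + a*A*z*S^3 + a*A*z*S^2 + a*A*z*S + a*A*S^3 + a*A*S^2 + a*A + a*z^3*S^4 + a*z^3*S^2 + a*z^2*S^4 + a*z^2*S^2 + a*z*S^2 + a*z + a + A*S^2*b + A*b + z^2*S^3*b + z*S^2*b + z*S*b + b) * h1 + (a*A*z^2 + a*A*z*S^2 + a*A*z*S + a*A + z*S^2*b + z*S*b + b) * h2 + (a*A*S + a*S^2 + S*b) * h3 + (a*A*z + a) * h4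
    clear h0 h1 h2 h3 h4; grind
  · linear_combination (norm := skip) (a^2*A*z^2*S^4 + a^2*A*z^2*S^2 + a^2*A*z*S^4 + a^2*A*z + a^2*A*S^2 + a^2*A + a^2*z^4*S^5 + a^2*z^4*S^3 + a^2*z^3*S^4 + a^2*z^3*S^3 + a^2*z^3*S^2 + a^2*z^3*S + a^2*z^2*S^2 + a^2*z^2 + A*z^4*S^6 + A*z^3*S^4 + A*z^2*S^6 + A*z^2*S^4 + A*z*S^4 + A*S^2 + z^4*S^5 + z^3*S^5 + z^3*S^4 + z^3*S^3 + z^2*S^4 + z^2*S^3 + z^2*S^2 + z*S^2) * h0 + (a^2*A^2*z^2*S^3 + a^2*A^2*z^2*S + a^2*A^2*z*S^2 + a^2*A^2*z + a^2*A^2*S^3 + a^2*A^2*S + a^2*A*z^4*S^4 + a^2*A*z^4*S^2 + a^2*A*z^2*S^2 + a^2*A*z^2 + a^2*A*z*S^4 + a^2*A*z*S^2 + a^2*A*S^2 + a^2*A + a^2*z^5*S^5 + a^2*z^5*S^3 + a^2*z^4*S^5 + a^2*z^4*S^4 + a^2*z^4*S^3 + a^2*z^4*S^2 + a^2*z^3*S^4 + a^2*z^3*S^3 + a^2*z^3*S^2 + a^2*z^3*S + a^2*z^2*S^2 + a^2*z^2 + A^2*z^4*S^5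 + A^2*z^3*S^5 + A^2*z^3*S^4 + A^2*z^2*S^5 + A^2*z^2*S^4 + A^2*z*S^5 + A^2*z*S^4 + A^2*z*S + A^2*S^4 + A^2*S^3 + A^2*S + A*z^5*S^6 + A*z^4*S^6 + A*z^4*S^4 + A*z^3*S^6 + A*z^2*S^6 + A*z^2*S^4 + A*z^2*S^2 + A*z*S^4 + A*z*S^3 + A*S^2 + A*S + z^5*S^5 + z^4*S^5 + z^4*S^4 + z^3*S^5 + z^3*S^4 + z^2*S^4) * h1 + (a*z*S*b + a*z*b + A*z^2*S + A*z^2 + A*z + A*S^2 + A + z^3*S^4 + z^3*S^3 + z^2*S + z^2 + z*S^2 + 1) * h2 + (a^2*A*S^2 + a^2*A + a*S*b + a*b + A*S^3 + A*S^2 + A*S + A) * h3 + (A*z + z + 1) * h4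
    clear h0 h1 h2 h3 h4; grind
  · linear_combination (norm := skip) (a^3*A*z^2*S^4 + a^3*A*z^2 + a^3*A*z*S^4 + a^3*A*z + a^3*z^4*S^5 + a^3*z^4*S + a^3*z^3*S^4 + a^3*z^3 + a*A*z^4*S^6 + a*A*z^4*S^4 + a*A*z^2*S^6 + a*A*z^2*S^2 + a*A*z*S^4 + a*A*z + a*A*S^2 + a*A + a*z^4*S^5 + a*z^4*S^3 + a*z^3*S^4 + a*z^3*S^2 + a*z^2*S^3 + a*z^2*S + a*z*S^2 + a*z + z^2*S^4*b + z*S^2*b) * h0 + (a^3*A*S^2 + a^3*A + a^3*z^2*S^3 + a^3*z^2*S + a^3*z*S^2 + a^3*z + a^2*A*z^2*S^3*b + a^2*A*z^2*S*b + a^2*A*z*S^2*b + a^2*A*z*b + a^2*A*S^3*b + a^2*A*S*b + a^2*z^4*S^4*b + a^2*z^4*S^2*b + a^2*z^3*S^4*b + a^2*z^3*S^2*b + a^2*z^2*S^2*b + a^2*z^2*b + a^2*z*S^2*b + a^2*z*b + a*A^2*S^3 + a*A*z*S^2 + a*A*S^4 + a*A*S^2 + a*z^3*S^5 + a*z^3*S^3 + a*z^2*S^4 + a*z^2*S^3 + a*z^2*S^2 + a*z*S^3 + a*z*S^2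 + a*z*S + a + A^2*S^2*b + A*z^4*S^5*b + A*z^3*S^5*b + A*z^3*S^4*b + A*z^2*S^5*b + A*z^2*S^4*b + A*z*S^5*b + A*z*S^4*b + A*z*S*b + A*S^4*b + A*S^3*b + A*S^2*b + A*S*b + A*b + z^4*S^4*b + z^3*S^4*b) * h1 + (a*A*z*S^3 + a*A*z*S^2 + a*A*S^3 + a*z^2*S^4 + a*z^2*S^3 + a*z*S^2 + a*S + A*z*S^2*b + A*z*S*b + A*z*b + A*S^2*b + z^2*S^3*b + z^2*S^2*b + z*S^3*b) * h2 + (a^3*S^2 + a^3 + a^2*S^2*b + a^2*b + a*A*S^3 + a*A*S^2 + a*S^3 + a*S^2 + a*S + A*S^2*b + A*S*b + A*b + S^3*b + b) * h3 + (a*A + A*b) * h4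
    clear h0 h1 h2 h3 h4; grind
  · linear_combination (norm := skip) (a*z^2*S^4 + a*z*S^2) * h0 + (a^3*A^2*S^2 + a^3*A^2 + a^3*A*S^3 + a^3*A*S + a^3*z^4*S^4 + a^3*z^4*S^2 + a^3*z^3*S^4 + a^3*z^3*S^2 + a^3*z^2*S^2 + a^3*z^2 + a^3*z*S^2 + a^3*z + a^2*A*S^2*b + a^2*A*b + a^2*z^2*S^3*b + a^2*z^2*S*b + a^2*z*S^2*b + a^2*z*b + a*A^3*S^3 + a*A^2*z*S^4 + a*A^2*S^4 + a*A^2*S^3 + a*A^2 + a*A*z^4*S^5 + a*A*z^3*S^5 + a*A*z^3*S^4 + a*A*z^2*S^5 + a*A*z^2*S^4 + a*A*z^2*S + a*A*z*S^5 + a*A*z*S^4 + a*A*z*S + a*A*z + a*A*S^4 + a*A*S^3 + a*A*S^2 + a*A + a*z^4*S^4 + a*z^3*S^2 + a*z*S^2 + a*z + A^2*S^3*b + A*z*S^4*b + A*S^4*b + A*S^3*b + z^2*S^3*b + z*S^3*b + z*S^2*b + z*S*b + b) * h1 + (a*A^2*z*S^3 + a*A^2*z*S^2 + a*A^2*z*S + a*A^2*z + a*A^2*S^3 + a*A*z + a*A*S^2 + a*A*S + a*z*S^3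 + a*z*S^2 + a*z*S + a*z + A*z*S^3*b + A*z*S^2*b + A*z*S*b + A*z*b + A*S^3*b + S*b) * h2 + (a^3*A*S^2 + a^3*A + a^3*S^2 + a^3 + a^2*S^2*b + a^2*b + a*A^2*S^3 + a*A^2*S^2 + a*A^2*S + a*A^2 + a*A*S^3 + a*A*S^2 + a*A*S + a*S^3 + a*S + a + A*S^3*b + A*S^2*b + A*S*b + A*b + S^3*b + S*b) * h3 + (a*A^2 + a*A + A*b) * h4
    clear h0 h1 h2 h3 h4; grind
  · linear_combination (norm := skip) (z^2*S^4 + z*S^2 + 1) * h0 + (a^2*A^2*S^2 + a^2*A^2 + a^2*A*S^3 + a^2*A*S + a^2*z^4*S^4 + a^2*z^4*S^2 + a^2*z^3*S^4 + a^2*z^3*S^2 + a^2*z^2*S^2 + a^2*z^2 + a^2*z*S^2 + a^2*z + a*A*S^2*b + a*A*b + a*z^2*S^3*b + a*z^2*S*b + a*z*S^2*b + a*z*b + A^3*S^3 + A^2*z*S^4 + A^2*S^4 + A^2*S^3 + A^2*S^2 + A^2 + A*z^4*S^5 + A*z^3*S^5 + A*z^3*S^4 + A*z^2*S^5 + A*z^2*S^4 + A*z^2*S^3 + A*z*S^5 + A*z*S^4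 + A*z*S^3 + A*z*S^2 + A*z*S + A*S^4 + A*S^3 + A*S^2 + A + z^4*S^4 + z^3*S^4) * h1 + (a*z*S^2*b + a*z*S*b + A^2*z*S^3 + A^2*z*S^2 + A^2*z*S + A^2*z + A^2*S^3 + A*z*S^2 + A*z*S + A*S^2 + A*S + A + z^2*S^3 + z^2*S^2 + z*S^3) * h2 + (a^2*A*S^2 + a^2*A + a^2*S^2 + a^2 + a*S*b + a*b + A^2*S^3 + A^2*S^2 + A^2*S + A^2 + A*S^3 + A*S^2 + S^3) * h3 + (A^2) * h4
    clear h0 h1 h2 h3 h4; grind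

end CL.VN.SzQ
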