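import Cfsg.Agent.FGS.VN.SzQ
import Cfsg.Agent.FGS.VN.SzQ1
import Cfsg.Agent.FGS.BG.SLx
import Cfsg.Agent.CHEV.SzConcrete

/-!
# The relation `Rel` in the Suzuki groups
-/

set_option autoImplicit false

namespace CL.VN.SzQ

open CL.Sz

variable {F : Type*} [Field F] [CharP F 2] {θ : F →+* F} {G : Type*} [Group G] (M : Model θ G)

omit [Field F] [CharP F 2] in
theorem tr4 (a00 a01 a02 a03 a10 a11 a12 a13 a20 a21 a22 a23 a30 a31 a32 a33 : F) :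
    Matrix.transpose !![a00, a01, a02, a03; a10, a11, a12, a13; a20, a21, a22, a23; a30, a31, a32, a33] =
      !![a00, a10, a20, a30; a01, a11, a21, a31; a02, a12, a22, a32; a03, a13, a23, a33] := by
  ext i j
  fin_cases i <;> fin_cases j <;> rfl

theorem rA (a b : F) : M.ρ (M.w * M.u a b) = mA a (θ a) b (θ b) := by
  rw [map_mul, M.ρ_w, M.ρ_u]
  simp only [J, Cfsg.suzukiForm, uMat, mA, ov, mul4]
  simp

theorem rA' (a b : F) : M.ρ (M.w * M.u a b)⁻¹ = mA' a (θ a) b (θ b) := by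
  rw [M.ρ_inv, rA]
  simp only [J, Cfsg.suzukiForm, mA, mA', tr4, mul4]
  simp

theorem rC (g d : F) : M.ρ (M.u g d) = mC g (θ g) d (θ d) := M.ρ_u g d

theorem rC' (g d : F) : M.ρ (M.u g d)⁻¹ = mC' g (θ g) d (θ d) := by
  rw [M.ρ_inv, rC]
  simp only [J, Cfsg.suzukiForm, mC, mC', tr4, mul4]
  simp

include M in
theorem rel {v η : F} (hv : v ≠ 0) (hv1 : v ≠ 1) (hE : 1 + θ v + v ^ 2 ≠ 0)
    (hη : (θ η + η + 1) * (v * (1 + θ v + v ^ 2)) = θ v * (1 + v)) :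
    ∃ a c : G, Rel a c ∧ c * (a * a) ≠ 1 := by
  have tt := M.tits
  obtain ⟨w, hw⟩ : ∃ w, θ v = w := ⟨_, rfl⟩
  have tw : θ w = v ^ 2 := hw ▸ tt v
  rw [hw] at hE hη
  have w0 : w ≠ 0 := hw ▸ (map_ne_zero θ).2 hv
  obtain ⟨e, e1⟩ : ∃ e, e = 1 + v + w := ⟨_, rfl⟩
  obtain ⟨E, e2⟩ : ∃ E, E = 1 + w + v ^ 2 := ⟨_, rfl⟩
  obtain ⟨g, e3⟩ : ∃ g, g = w * e + v * E := ⟨_, rfl⟩
  obtain ⟨D, e4⟩ : ∃ D, D = v ^ 2 * E + w * e ^ 2 := ⟨_, rfl⟩
  rw [← e2] at hE hη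
  have te : θ e = E := by rw [e1, e2, map_add, map_add, map_one, hw, tw]
  have tE : θ E = e ^ 2 := te ▸ tt e
  have tg : θ g = D := by rw [e3, e4, map_add, map_mul, map_mul, hw, tw, te, tE]
  have tD : θ D = g ^ 2 := tg ▸ tt g
  have e0 : e ≠ 0 := fun h => hE (by rw [← te, h, map_zero])
  have g0 : g ≠ 0 := fun h => by
    have hD : D = 0 := by rw [← tg, h, map_zero]
    have h1 : v ^ 2 * (1 + v) ^ 2 * E = w * D + g ^ 2 := by
      subst e4 e3 e2 e1; clear * -; grind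
    rw [hD, h, mul_zero, zero_add, zero_pow two_ne_zero] at h1
    have h2 : 1 + v = 0 := by simpa [hv, hE] using h1
    exact hv1 (by clear * - h2; grind)
  have D0 : D ≠ 0 := tg ▸ (map_ne_zero θ).2 g0
  obtain ⟨a, ha⟩ : ∃ a, a = w ^ 2 * e ^ 2 / (v * D) := ⟨_, rfl⟩
  obtain ⟨S, hS⟩ : ∃ S, S = w * e ^ 2 / (v ^ 2 * E) := ⟨_, rfl⟩
  have hA : θ a = (v ^ 2) ^ 2 * E ^ 2 / (w * g ^ 2) := by
    rw [ha]; simp only [map_div₀, map_mul, map_pow, hw, tw, te, tD]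
  have hz : θ S = v ^ 2 * E ^ 2 / (w ^ 2 * e ^ 2) := by
    rw [hS]; simp only [map_div₀, map_mul, map_pow, hw, tw, te, tE]
  obtain ⟨h1, h2, h3, h4⟩ := SzQ1.rels hv w0 e0 hE g0 D0 e1 e2 e3 e4 ha hA hS hz
  have hl := SzQ1.lift hv w0 e0 hE g0 D0 e1 e2 e3 e4 ha hA hS hz
  obtain ⟨r, hr⟩ : ∃ r, r = (w ^ 2 + w ^ 3 + v * w + v ^ 2 * w ^ 2 + v ^ 3 + v ^ 3 * w + v ^ 4) /
    (v ^ 2 * w * e) := ⟨_, rfl⟩
  have tr : θ r = ((v ^ 2) ^ 2 + (v ^ 2) ^ 3 + w * v ^ 2 + w ^ 2 * (v ^ 2) ^ 2 + w ^ 3 + w ^ 3 * v ^ 2 +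
      w ^ 4) / (w ^ 2 * v ^ 2 * E) := by
    rw [hr]; simp only [map_div₀, map_mul, map_pow, map_add, hw, tw, te]
  have hη' : v ^ 2 * (1 + w) / (w * e ^ 2) = η ^ 2 + θ η + 1 := by
    have := congrArg θ hη
    simp only [map_mul, map_add, map_one, hw, tw, tE, tt] at this
    rw [← this]; field_simp
  rw [← hr, ← tr, hη'] at hl
  obtain ⟨b, hb⟩ : ∃ b, b = a * θ a * (θ η + r) ^ 2 := ⟨_, rfl⟩
  have hB : θ b = a * b + a ^ 2 * θ a + (1 + θ S * S) + θ a := by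
    rw [add_assoc (a * b + _), ← hl, hb]
    simp only [map_mul, map_pow, map_add, tt]
    clear * -; grind
  have h0 := congrArg θ hB
  simp only [map_mul, map_pow, map_add, map_one, tt] at h0
  rw [hB] at h0
  have key := mat a (θ a) (θ S) S b (θ b) (a * (1 + θ S)) (θ (a * (1 + θ S)))
    ((1 + S ^ 2) * θ S * (a * (1 + θ S * S) + b) + (1 + θ S) * (b + a * θ a))
    (θ ((1 + S ^ 2) * θ S * (a * (1 + θ S * S) + b) + (1 + θ S) * (b + a * θ a))) hB rfl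
    (by simp only [map_mul, map_add, map_one, tt]) rfl
    (by simp only [map_mul, map_add, map_one, map_pow, tt]; ring) (by clear * - h0; grind) h1 h2 h3 h4
  rw [← rA M, ← rA' M, ← rC M, ← rC' M] at key
  simp only [← map_mul M.ρ] at key
  have k2 := M.inj key
  generalize a * (1 + θ S) = γ at k2
  generalize (1 + S ^ 2) * θ S * (a * (1 + θ S * S) + b) + (1 + θ S) * (b + a * θ a) = δ at k2
  refine ⟨M.w * M.u a b, M.u γ δ, ?_, fun h => ?_⟩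
  · generalize M.w * M.u a b = x at k2
    generalize M.u γ δ = y at k2
    unfold Rel
    calc y * x * y⁻¹ * x * y = y * (x * y⁻¹ * x * y * x⁻¹ * x⁻¹) * (x * x) := by group
      _ = _ := by rw [k2]; group
  · have := congrArg (fun m => M.ρ m 1 0) (eq_inv_of_mul_eq_one_right h)
    simp only [map_mul M.ρ (M.w * M.u a b), rA, rC', mA, mC', mul4] at this
    have a0 : a ≠ 0 := ha ▸ div_ne_zero (mul_ne_zero (pow_ne_zero _ w0) (pow_ne_zero _ e0)) (mul_ne_zero hv D0)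
    exact a0 (by simpa using this)

theorem hz (F : Type) [Field F] [Fintype F] (m : ℕ) (hm : 1 ≤ m)
    (hF : Fintype.card F = 2 ^ (2 * m + 1)) : BG.Red.NI (Cfsg.Lie.Sz F (2 ^ (m + 1))) := by
  have : CharP F 2 := charP_of_card_eq_prime_pow (p := 2) hF
  obtain ⟨x, y, h0, h1, h2, h3⟩ := exists_sz hm hF
  obtain ⟨a, c, h, hn⟩ := rel (lieModel hF) (η := y) h0 h1 (by rwa [theta_apply])
    (by rwa [theta_apply, theta_apply])
  intro n
  refine ⟨a, a * c, fun e => hn ?_⟩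
  exact inv_eq_one.1 ((h.sq_eq n).symm.trans e)

end CL.VN.SzQ
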