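import Mathlib

/-!
# The absolute trace of a field of order `2 ^ (2k+1)`
-/

set_option autoImplicit false

namespace CL.VN.SzT

open Finset Polynomial

variable {F : Type*} [Field F] [CharP F 2]

/-- the trace -/
def T (k : ℕ) (w : F) : F := ∑ i ∈ Finset.range (2 * k + 1), w ^ 2 ^ i

theorem T_add (k : ℕ) (a b : F) : T k (a + b) = T k a + T k b := by
  simp only [T, add_pow_char_pow, sum_add_distrib]

omit [CharP F 2] in
theorem T_zero (k : ℕ) : T k (0 : F) = 0 := by simp [T]

theorem T_sum (k : ℕ) {ι : Type*} (s : Finset ι) (f : ι → F) : T k (∑ i ∈ s, f i) = ∑ i ∈ s, T k (f i) := by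
  simp only [T, sum_pow_char_pow]
  exact sum_comm

theorem T_one (k : ℕ) : T k (1 : F) = 1 := by
  simp [T, CharTwo.two_eq_zero]

theorem sq_T (k : ℕ) (w : F) : T k w ^ 2 = T k (w ^ 2) := by
  simp only [T, sum_pow_char, ← pow_mul, mul_comm]

variable [Fintype F] {k : ℕ} (hF : Fintype.card F = 2 ^ (2 * k + 1))
include hF

omit [CharP F 2] in
theorem T_sq (w : F) : T k (w ^ 2) = T k w := by
  have h1 := sum_range_succ (fun i => w ^ 2 ^ i) (2 * k + 1)
  have h2 := sum_range_succ' (fun i => w ^ 2 ^ i) (2 * k + 1)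
  simp only [← hF, FiniteField.pow_card, pow_zero, pow_one] at h1 h2
  simp only [T, ← pow_mul, ← pow_succ']
  exact add_right_cancel (h2.symm.trans h1)

omit [CharP F 2] in
theorem T_pow (j : ℕ) (w : F) : T k (w ^ 2 ^ j) = T k w := by
  induction j with
  | zero => simp
  | succ j ih => rw [pow_succ, pow_mul, T_sq hF, ih]

theorem T_01 (w : F) : T k w = 0 ∨ T k w = 1 := by
  have h := (sq_T k w).trans (T_sq hF w)
  rw [← sub_eq_zero (b := (1 : F)), ← mul_eq_zero]
  linear_combination h

theorem as {w : F} (hw : T k w = 0) : ∃ y : F, y ^ 2 ^ (k + 1) + y = w := by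
  classical
  let f : F →+ F := ⟨⟨fun y => y ^ 2 ^ (k + 1) + y, by simp⟩, fun a b => by
    simp only [add_pow_char_pow]; ring⟩
  have hker : Nat.card f.ker ≤ 2 := by
    have : (f.ker : Set F) ⊆ {0, 1} := fun y hy => by
      have h1 : y ^ 2 ^ (k + 1) = y := by
        have : y ^ 2 ^ (k + 1) + y = 0 := hy
        rwa [add_eq_zero_iff_eq_neg, CharTwo.neg_eq] at this
      have h2 : y ^ 2 = y := by
        calc y ^ 2 = (y ^ 2 ^ (2 * k + 1)) ^ 2 := by rw [← hF, FiniteField.pow_card]
          _ = (y ^ 2 ^ (k + 1)) ^ 2 ^ (k + 1) := by rw [← pow_mul, ← pow_mul, ← pow_succ, ← pow_add]; ring_nf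
          _ = y := by rw [h1, h1]
      have h3 : y * (y - 1) = 0 := by linear_combination h2
      simpa [sub_eq_zero] using h3
    exact (Set.ncard_le_ncard this).trans (Set.ncard_insert_le _ _ |>.trans (by simp))
  have hc := f.ker.card_mul_index
  rw [AddSubgroup.index_ker, Nat.card_eq_fintype_card (α := F), hF] at hc
  let P : F[X] := ∑ i ∈ Finset.range (2 * k + 1), X ^ 2 ^ i
  have hd : P.natDegree ≤ 2 ^ (2 * k) := natDegree_sum_le_of_forall_le _ _ fun i hi => by
    rw [natDegree_X_pow]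
    exact Nat.pow_le_pow_right two_pos (by simpa [Nat.lt_succ_iff] using hi)
  have hP : P ≠ 0 := fun h => by
    have := congrArg (eval (1 : F)) h
    simp only [P, eval_finsetSum, eval_pow, eval_X, eval_zero] at this
    exact one_ne_zero ((T_one k).symm.trans this)
  have hr : ∀ x, x ∈ P.rootSet F ↔ T k x = 0 := fun x => by
    simp [mem_rootSet, hP, P, T]
  have hsub : (f.range : Set F) ⊆ P.rootSet F := by
    rintro _ ⟨y, rfl⟩
    rw [hr]
    change T k (y ^ 2 ^ (k + 1) + y) = 0
    rw [T_add, T_pow hF, CharTwo.add_self_eq_zero]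
  have h2 : (P.rootSet F).ncard ≤ (f.range : Set F).ncard := by
    refine (P.ncard_rootSet_le F).trans (hd.trans ?_)
    change _ ≤ Nat.card f.range
    rw [pow_succ] at hc
    nlinarith
  exact (Set.eq_of_subset_of_ncard_le hsub h2).symm.subset ((hr w).2 hw)

end CL.VN.SzT
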